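import Groth.Agent.L00.RPlusUnit
import Groth.Agent.L10.KInjDerived
import Mathlib.Algebra.Homology.DerivedCategory.ExactFunctor
import Mathlib.Algebra.Homology.Factorizations.CM5a

/-! # Values of derived functors on bounded below objects -/

set_option autoImplicit false
set_option backward.defeqAttrib.useBackward true
set_option backward.isDefEq.respectTransparency false
set_option backward.isDefEq.respectTransparency.types false
set_option linter.style.haveILetI false
set_option linter.unusedSectionVars false

universe w w' v v' u u'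

open CategoryTheory CategoryTheory.Limits CochainComplex

noncomputable section

namespace Groth.L27.RShriek

variable {A : Type u} [Category.{v} A] [Abelian A] [EnoughInjectives A] [HasDerivedCategory.{w} A]
  {B : Type u'} [Category.{v'} B] [Abelian B] [HasDerivedCategory.{w'} B] (F : A ⥤ B) [F.Additive]

/-- Bounded below injective models. -/
theorem exists_plus_model (K : DerivedCategory.Plus A) :
    ∃ (L : CochainComplex.Plus A), (∀ n, Injective (L.obj.X n)) ∧
      Nonempty (DerivedCategory.Plus.Qh.obj ((HomotopyCategory.Plus.quotient A).obj L) ≅ K) := by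
  obtain ⟨L₀, hL⟩ := HomotopyCategory.Plus.quotient_obj_surjective (DerivedCategory.Plus.Qh.objPreimage K)
  let e₀ : DerivedCategory.Plus.Qh.obj ((HomotopyCategory.Plus.quotient A).obj L₀) ≅ K :=
    eqToIso (by rw [hL]) ≪≫ DerivedCategory.Plus.Qh.objObjPreimageIso K
  obtain ⟨L₀', m, hm⟩ := L₀
  obtain ⟨I, j, hj, hI, hge⟩ := CochainComplex.Plus.modelCategoryQuillen.exists_quasiIso_injective L₀' m
  let L : CochainComplex.Plus A := ⟨I, m, inferInstance⟩
  haveI : IsIso (DerivedCategory.Plus.Q.map (ObjectProperty.homMk j :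
      (⟨L₀', m, hm⟩ : CochainComplex.Plus A) ⟶ L)) := (L00.RPlusUnit.isIso_plusQ_iff _).2 hj
  exact ⟨L, hI, ⟨(asIso (DerivedCategory.Plus.Q.map (ObjectProperty.homMk j :
      (⟨L₀', m, hm⟩ : CochainComplex.Plus A) ⟶ L))).symm ≪≫ e₀⟩⟩

/-- On a bounded below injective model the derived functor is computed termwise. -/
theorem isIso_unit_model (L : CochainComplex.Plus A) (hI : ∀ n, Injective (L.obj.X n)) :
    IsIso (F.rightDerivedFunctorPlusUnit.app ((HomotopyCategory.Plus.quotient A).obj L)) :=
  (L00.RPlusUnit.unit_isIso_iff F (𝟙 L) hI).2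
    (by rw [ObjectProperty.FullSubcategory.id_hom, CategoryTheory.Functor.map_id]; infer_instance)

/-- For an exact functor the derived functor is the termwise one. -/
theorem nonempty_plusObj_exact [PreservesFiniteLimits F] [PreservesFiniteColimits F] (K : DerivedCategory.Plus A) :
    Nonempty ((F.rightDerivedFunctorPlus.obj K).obj ≅ F.mapDerivedCategory.obj K.obj) := by
  obtain ⟨L, hI, ⟨e⟩⟩ := exists_plus_model K
  haveI := isIso_unit_model F L hI
  exact ⟨(ObjectProperty.ι _).mapIso (F.rightDerivedFunctorPlus.mapIso e.symm ≪≫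
      (asIso (F.rightDerivedFunctorPlusUnit.app ((HomotopyCategory.Plus.quotient A).obj L))).symm) ≪≫
    (F.mapDerivedCategoryFactorsh.app ((HomotopyCategory.quotient A (ComplexShape.up ℤ)).obj L.obj)).symm ≪≫
    F.mapDerivedCategory.mapIso ((ObjectProperty.ι _).mapIso e)⟩

/-- The unbounded derived functor extends the bounded below one. -/
theorem nonempty_plusObj [L10.KInjDerived.EnoughKInjectives A] {RF : DerivedCategory A ⥤ DerivedCategory B}
    (α : F.mapHomotopyCategory (ComplexShape.up ℤ) ⋙ DerivedCategory.Qh ⟶ DerivedCategory.Qh ⋙ RF)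
    [RF.IsRightDerivedFunctor α (HomotopyCategory.quasiIso A (ComplexShape.up ℤ))] (K : DerivedCategory.Plus A) :
    Nonempty ((F.rightDerivedFunctorPlus.obj K).obj ≅ RF.obj K.obj) := by
  obtain ⟨L, hI, ⟨e⟩⟩ := exists_plus_model K
  haveI := isIso_unit_model F L hI
  obtain ⟨I, m, hm⟩ := L
  haveI : ∀ n, Injective (I.X n) := hI
  haveI := CochainComplex.isKInjective_of_injective I m
  haveI := L10.KInjDerived.isIso_app_quotient α I
  exact ⟨(ObjectProperty.ι _).mapIso (F.rightDerivedFunctorPlus.mapIso e.symm ≪≫
      (asIso (F.rightDerivedFunctorPlusUnit.app ((HomotopyCategory.Plus.quotient A).obj ⟨I, m, hm⟩))).symm) ≪≫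
    asIso (α.app ((HomotopyCategory.quotient A (ComplexShape.up ℤ)).obj I)) ≪≫
    RF.mapIso ((ObjectProperty.ι _).mapIso e)⟩

end Groth.L27.RShriek
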