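import Groth.Agent.L27.RShriek.Squares
import Groth.Prelude.Def_DEt2

/-! # Direct images with proper support of quasi-finite morphisms -/

universe u

open CategoryTheory CategoryTheory.Limits AlgebraicGeometry Opposite

attribute [local instance] HasDerivedCategory.standard

set_option autoImplicit false
set_option backward.isDefEq.respectTransparency false
set_option backward.isDefEq.respectTransparency.types false
set_option backward.defeqAttrib.useBackward true
set_option linter.style.haveILetI false
set_option linter.unusedSectionVars false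
set_option synthInstance.maxHeartbeats 100000

noncomputable section

namespace Groth.L27.RShriek

/-- The complex in degree zero represents the single object. -/
def qoSingle {C : Type (u + 2)} [Category.{u + 1} C] [Abelian C] (M : C) :
    Qo ((HomologicalComplex.single C (ComplexShape.up ℤ) 0).obj M) ≅ (DerivedCategory.singleFunctor C 0).obj M :=
  (DerivedCategory.quotientCompQhIso C).app _ ≪≫ ((DerivedCategory.singleFunctorIsoCompQ C 0).app M).symm

/-- For quasi-finite morphisms the derived direct image with proper support is concentrated in degree zero. -/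
theorem nonempty_Rshriek_single {X Y : Scheme.{u}} {f : X ⟶ Y} [IsSeparated f] [LocallyOfFiniteType f]
    [LocallyQuasiFinite f] (c : DEt.Compactification f) [DCoh.HasRpushEt c.Xbar c.fbar]
    (F : EtCoh.Ab X) (hF : EtCoh.IsTorsion F) :
    Nonempty ((DEt.Rshriek c).obj ((DerivedCategory.singleFunctor (EtCoh.Ab X) 0).obj F) ≅
      (DerivedCategory.singleFunctor (EtCoh.Ab Y) 0).obj ((EtShriek.lowerShriek f).obj F)) := by
  haveI : LocallyQuasiFinite (c.j ≫ c.fbar) := by rw [c.fac]; infer_instance
  let M := (EtShriek.extZero c.j).obj F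
  let L := (HomologicalComplex.single (EtCoh.Ab c.Xbar) (ComplexShape.up ℤ) 0).obj M
  haveI : CochainComplex.IsStrictlyGE L 0 := (CochainComplex.isStrictlyGE_iff _ _).2 fun i hi =>
    HomologicalComplex.isZero_single_obj_X _ 0 M i (ne_of_lt hi)
  have hac : ∀ m, L17.GrothSS.RAcyclic (EtCoh.push c.fbar) (L.X m) := fun m q hq => by
    by_cases hm : m = 0
    · subst hm
      exact (PBC.isZero_Rpush_shriek c.j c.fbar F hF q hq).of_iso ((EtCoh.Rpush c.fbar q).mapIso
        (HomologicalComplex.singleObjXSelf (ComplexShape.up ℤ) 0 M ≪≫ (Groth.L27.ExtZero.shriekIso c.j).app F))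
    · exact L17.GrothSS.rAcyclic_of_isZero _ (HomologicalComplex.isZero_single_obj_X _ 0 M m hm) q hq
  obtain ⟨a⟩ := nonempty_RpushQo c.fbar L 0 hac
  let φ : (EtCoh.push c.fbar).obj M ≅ (EtShriek.lowerShriek f).obj F :=
    ((Groth.L27.Supp.shriekPushIso c.fbar).app M).symm ≪≫
      (EtShriek.lowerShriek c.fbar).mapIso ((Groth.L27.ExtZero.shriekIso c.j).app F) ≪≫
      ((Groth.L27.Supp.compIso c.j c.fbar).app F).symm ≪≫ (Groth.L27.Supp.shriekCongr c.fac).app F
  exact ⟨(DCoh.RpushEt c.Xbar c.fbar).mapIso
      (((EtShriek.extZero c.j).mapDerivedCategorySingleFunctor 0).app F ≪≫ (qoSingle M).symm) ≪≫ a ≪≫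
    DerivedCategory.Qh.mapIso ((HomotopyCategory.quotient _ _).mapIso
      ((HomologicalComplex.singleMapHomologicalComplex (EtCoh.push c.fbar) (ComplexShape.up ℤ) 0).app M)) ≪≫
    qoSingle _ ≪≫ (DerivedCategory.singleFunctor (EtCoh.Ab Y) 0).mapIso φ⟩

end Groth.L27.RShriek
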