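import Groth.Agent.L27.PBC.ProperCd
import Groth.Agent.L27.RShriek.Lqf
import Groth.Agent.L29.DCoh.RDerLE
import Groth.Agent.L06.FibreDimLocConst

/-! # Direct images with proper support are bounded -/

set_option autoImplicit false
set_option backward.isDefEq.respectTransparency.types false
set_option linter.style.haveILetI false
set_option linter.unusedSectionVars false
set_option synthInstance.maxHeartbeats 100000

universe u

open CategoryTheory CategoryTheory.Limits AlgebraicGeometry Opposite

attribute [local instance] HasDerivedCategory.standard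

noncomputable section

namespace Groth.L27.RShriek

/-- Exact functors commute with cohomology objects. -/
theorem nonempty_homology_mapDerived {A B : Type (u + 2)} [Category.{u + 1} A] [Abelian A] [Category.{u + 1} B]
    [Abelian B] (G : A ⥤ B) [G.Additive] [PreservesFiniteLimits G] [PreservesFiniteColimits G]
    (K : DerivedCategory A) (q : ℤ) :
    Nonempty ((DerivedCategory.homologyFunctor B q).obj (G.mapDerivedCategory.obj K) ≅
      G.obj ((DerivedCategory.homologyFunctor A q).obj K)) := by
  let L := DerivedCategory.Q.objPreimage K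
  let e := DerivedCategory.Q.objObjPreimageIso K
  haveI : G.PreservesHomology := inferInstance
  exact ⟨(DerivedCategory.homologyFunctor B q).mapIso (G.mapDerivedCategory.mapIso e.symm ≪≫
      G.mapDerivedCategoryFactors.app L) ≪≫ (DerivedCategory.homologyFunctorFactors B q).app _ ≪≫
      (L.sc q).mapHomologyIso G ≪≫ G.mapIso (((DerivedCategory.homologyFunctorFactors A q).app L).symm ≪≫
        (DerivedCategory.homologyFunctor A q).mapIso e)⟩

/-- The dimensions of the fibres of a morphism of finite type to a quasi-compact scheme are bounded. -/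
theorem exists_fiber_dim_bound {X Y : Scheme.{u}} (f : X ⟶ Y) [LocallyOfFiniteType f] [CompactSpace X] :
    ∃ n : ℕ, ∀ y : Y, topologicalKrullDim ↥(f.fiber y) ≤ n := by
  choose d hd using fun p => Groth.L07.OpenEquiv.exists_nat_fibreDimAt f p
  obtain ⟨t, ht⟩ := isCompact_univ.elim_finite_subcover
    (fun n : ℕ => {p : X | FlatMor.fibreDimAt f p ≤ (n : WithBot ℕ∞)})
    (fun n => Groth.L07.FibreDim.isOpen_fibreDimAt_le f n) (fun p _ => Set.mem_iUnion.mpr ⟨d p, (hd p).le⟩)
  refine ⟨t.sup id, fun y => (Groth.L07.FibreDim.fiber_dim_le_iff f y _).mpr fun p _ => ?_⟩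
  obtain ⟨n, hn, hpn⟩ := Set.mem_iUnion₂.mp (ht (Set.mem_univ p))
  exact le_trans hpn (by exact_mod_cast (Finset.le_sup (f := id) hn : n ≤ t.sup id))

/-- The direct image with proper support has bounded amplitude on torsion objects. -/
theorem exists_bound {X Y : Scheme.{u}} [CompactSpace Y] {f : X ⟶ Y} [IsSeparated f] [LocallyOfFiniteType f]
    (c : DEt.Compactification f) [PreservesFiniteLimits (EtShriek.extZero c.j)]
    [DCoh.HasRpushEt c.Xbar c.fbar] :
    ∃ N : ℕ, ∀ (E : DCoh.DEt X), (∀ n : ℤ, EtCoh.IsTorsion (DCoh.HDEt E n)) → ∀ a b : ℤ,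
      (∀ i : ℤ, i < a ∨ b < i → IsZero (DCoh.HDEt E i)) →
        ∀ i : ℤ, i < a ∨ b + N < i → IsZero (DCoh.HDEt ((DEt.Rshriek c).obj E) i) := by
  haveI : CompactSpace c.Xbar := QuasiCompact.compactSpace_of_compactSpace c.fbar
  obtain ⟨n, hn⟩ := exists_fiber_dim_bound c.fbar
  refine ⟨2 * n, fun E hE a b hab i hi => ?_⟩
  let G := EtShriek.extZero c.j
  let K := G.mapDerivedCategory.obj E
  have hK : ∀ m : ℤ, m < a ∨ b < m → IsZero (DCoh.HDEt K m) := fun m hm => by
    obtain ⟨e⟩ := nonempty_homology_mapDerived G E m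
    exact (G.map_isZero (hab m hm)).of_iso e
  have hT : ∀ m : ℤ, EtCoh.IsTorsion (DCoh.HDEt K m) := fun m => by
    obtain ⟨e⟩ := nonempty_homology_mapDerived G E m
    exact Colim.isTorsion_of_iso (e ≪≫ (ExtZero.shriekIso c.j).app _).symm (PBC.isTorsion_lowerShriek c.j (hE m))
  let α : (EtCoh.push c.fbar).mapHomotopyCategory (ComplexShape.up ℤ) ⋙ DerivedCategory.Qh ⟶
      DerivedCategory.Qh ⋙ DCoh.RpushEt c.Xbar c.fbar :=
    (DCoh.pushEtKh c.Xbar c.fbar).totalRightDerivedUnit DerivedCategory.Qh _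
  rcases hi with hi | hi
  · haveI : K.IsGE a := (DerivedCategory.isGE_iff K a).2 fun m hm => hK m (Or.inl hm)
    haveI : ((DCoh.RpushEt c.Xbar c.fbar).obj K).IsGE a := L10.RDerBound.isGE_obj α K a
    exact DerivedCategory.isZero_of_isGE ((DCoh.RpushEt c.Xbar c.fbar).obj K) a i hi
  · obtain ⟨k, hk⟩ : ∃ k : ℕ, b + 1 - (k : ℤ) ≤ a := ⟨(b + 1 - a).toNat, by omega⟩
    refine L29.DC.RDerLE.isZero_H_above α ((2 * n : ℕ) : ℤ) b k K
      ((DerivedCategory.isGE_iff K _).2 fun m hm => hK m (Or.inl (by omega)))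
      ((DerivedCategory.isLE_iff K b).2 fun m hm => hK m (Or.inr hm)) (fun m _ _ p hp => ?_) i hi
    exact PBC.isZero_Rpush_proper c.fbar n hn _ (hT m) p (by omega)

end Groth.L27.RShriek
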