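import Groth.Agent.L27.RShriek.Model
import Groth.Agent.L27.PBC.ShriekRpush
import Groth.Agent.L10.EtLocalBC.DerLocal

/-! # Derived squares of extensions by zero and proper direct images -/

universe u

open CategoryTheory CategoryTheory.Limits AlgebraicGeometry Opposite

attribute [local instance] HasDerivedCategory.standard

set_option autoImplicit false
set_option backward.isDefEq.respectTransparency false
set_option backward.isDefEq.respectTransparency.types false
set_option backward.defeqAttrib.useBackward true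
set_option linter.style.haveILetI false
set_option linter.unusedSectionVars false
set_option synthInstance.maxHeartbeats 100000

noncomputable section

namespace Groth.L27.RShriek

open DerivedCategory

/-- Extension by zero along an open immersion has continuous base change. -/
instance jCont' {U X : Scheme.{u}} (j : U ⟶ X) [IsOpenImmersion j] : EtShriek.JCont j := Groth.L27.ExtZero.jCont j

/-- Extension by zero along an open immersion is left exact. -/
instance pfl_extZero {U X : Scheme.{u}} (j : U ⟶ X) [IsOpenImmersion j] : PreservesFiniteLimits (EtShriek.extZero j) :=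
  Groth.L27.ExtZero.preservesFiniteLimits_extZero j

/-- Extension by zero of bounded below torsion objects. -/
theorem bt_extZero {U X : Scheme.{u}} (j : U ⟶ X) [IsOpenImmersion j] {K : DCoh.DEt U} (hK : BT K) :
    BT ((EtShriek.extZero j).mapDerivedCategory.obj K) := by
  obtain ⟨n, L, _, hL, -, ⟨e⟩⟩ := exists_model hK
  refine ⟨⟨n, ?_⟩, fun i => ?_⟩
  · refine (DerivedCategory.isGE_iff _ n).2 fun i hi => ?_
    haveI : (Qo L).IsGE n := TStructure.t.isGE_of_iso ((quotientCompQhIso (EtCoh.Ab U)).app L).symm n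
    exact (((EtShriek.extZero j).map_isZero (DerivedCategory.isZero_of_isGE (Qo L) n i hi)).of_iso
      ((L29.ExactHomology.hIso (EtShriek.extZero j) i).app (Qo L))).of_iso
        ((homologyFunctor _ i).mapIso ((EtShriek.extZero j).mapDerivedCategory.mapIso e).symm)
  · exact Colim.isTorsion_of_iso
      (((L29.ExactHomology.hIso (EtShriek.extZero j) i).app K) ≪≫ (Groth.L27.ExtZero.shriekIso j).app _).symm
      (PBC.isTorsion_lowerShriek j (hK.2 i))

/-- Direct images with proper support along a factorisation through an open immersion and a proper morphism. -/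
theorem nonempty_tri {U X X' : Scheme.{u}} (i : U ⟶ X') (h : X' ⟶ X) (j : U ⟶ X) [IsOpenImmersion i]
    [IsOpenImmersion j] [IsProper h] (w : i ≫ h = j) [DCoh.HasRpushEt X' h] {K : DCoh.DEt U} (hK : BT K) :
    Nonempty ((DCoh.RpushEt X' h).obj ((EtShriek.extZero i).mapDerivedCategory.obj K) ≅
      (EtShriek.extZero j).mapDerivedCategory.obj K) := by
  obtain ⟨n, L, _, hL, -, ⟨e⟩⟩ := exists_model hK
  haveI := isStrictlyGE_map (EtShriek.extZero i) L n
  haveI : LocallyQuasiFinite (i ≫ h) := by rw [w]; infer_instance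
  have hac : ∀ m, L17.GrothSS.RAcyclic (EtCoh.push h) ((((EtShriek.extZero i).mapHomologicalComplex _).obj L).X m) :=
    fun m q hq => (PBC.isZero_Rpush_shriek i h (L.X m) (hL m) q hq).of_iso
      ((EtCoh.Rpush h q).mapIso ((Groth.L27.ExtZero.shriekIso i).app _))
  obtain ⟨a⟩ := nonempty_RpushQo h _ n hac
  let φ : EtShriek.extZero i ⋙ EtCoh.push h ≅ EtShriek.extZero j :=
    Functor.isoWhiskerRight (Groth.L27.ExtZero.shriekIso i) _ ≪≫
      Functor.isoWhiskerLeft _ (Groth.L27.Supp.shriekPushIso h).symm ≪≫ (Groth.L27.Supp.compIso i h).symm ≪≫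
      Groth.L27.Supp.shriekCongr w ≪≫ (Groth.L27.ExtZero.shriekIso j).symm
  let θ : ((EtCoh.push h).mapHomologicalComplex _).obj (((EtShriek.extZero i).mapHomologicalComplex _).obj L) ≅
      ((EtShriek.extZero j).mapHomologicalComplex _).obj L :=
    HomologicalComplex.Hom.isoOfComponents (fun m => φ.app (L.X m))
      (fun _ _ _ => (φ.hom.naturality _).symm)
  exact ⟨(DCoh.RpushEt X' h).mapIso ((EtShriek.extZero i).mapDerivedCategory.mapIso e.symm ≪≫ mapQo _ L) ≪≫ a ≪≫
    Qh.mapIso ((HomotopyCategory.quotient _ _).mapIso θ) ≪≫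
    ((EtShriek.extZero j).mapDerivedCategory.mapIso e.symm ≪≫ mapQo _ L).symm⟩

/-- Extension by zero commutes with proper direct images. -/
theorem nonempty_sq {X Y X' Y' : Scheme.{u}} (f : X ⟶ Y) (g : Y' ⟶ Y) (f' : X' ⟶ Y') (g' : X' ⟶ X)
    (w : g' ≫ f = f' ≫ g) [IsProper f] [IsProper f'] [IsOpenImmersion g] [IsOpenImmersion g']
    [DCoh.HasRpushEt X f] [DCoh.HasRpushEt X' f'] {K : DCoh.DEt X'} (hK : BT K) :
    Nonempty ((EtShriek.extZero g).mapDerivedCategory.obj ((DCoh.RpushEt X' f').obj K) ≅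
      (DCoh.RpushEt X f).obj ((EtShriek.extZero g').mapDerivedCategory.obj K)) := by
  obtain ⟨n, L, _, hL, hac', ⟨e⟩⟩ := exists_model hK
  haveI := isStrictlyGE_map (EtShriek.extZero g') L n
  have hac : ∀ m, L17.GrothSS.RAcyclic (EtCoh.push f) ((((EtShriek.extZero g').mapHomologicalComplex _).obj L).X m) :=
    fun m q hq => (PBC.isZero_Rpush_shriek_acyclic f g f' g' w (L.X m) (hL m) q (hac' f' m q hq)).of_iso
      ((EtCoh.Rpush f q).mapIso ((Groth.L27.ExtZero.shriekIso g').app _))
  obtain ⟨a'⟩ := nonempty_RpushQo f' L n (hac' f')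
  obtain ⟨a⟩ := nonempty_RpushQo f _ n hac
  let φ : EtCoh.push f' ⋙ EtShriek.extZero g ≅ EtShriek.extZero g' ⋙ EtCoh.push f :=
    Functor.isoWhiskerRight (Groth.L27.Supp.shriekPushIso f').symm _ ≪≫
      Functor.isoWhiskerLeft _ (Groth.L27.ExtZero.shriekIso g) ≪≫ (Groth.L27.Supp.compIso f' g).symm ≪≫
      Groth.L27.Supp.shriekCongr w.symm ≪≫ Groth.L27.Supp.compIso g' f ≪≫
      Functor.isoWhiskerRight (Groth.L27.ExtZero.shriekIso g').symm _ ≪≫
      Functor.isoWhiskerLeft _ (Groth.L27.Supp.shriekPushIso f)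
  let θ : ((EtShriek.extZero g).mapHomologicalComplex _).obj (((EtCoh.push f').mapHomologicalComplex _).obj L) ≅
      ((EtCoh.push f).mapHomologicalComplex _).obj (((EtShriek.extZero g').mapHomologicalComplex _).obj L) :=
    HomologicalComplex.Hom.isoOfComponents (fun m => φ.app (L.X m))
      (fun _ _ _ => (φ.hom.naturality _).symm)
  exact ⟨(EtShriek.extZero g).mapDerivedCategory.mapIso ((DCoh.RpushEt X' f').mapIso e.symm ≪≫ a') ≪≫ mapQo _ _ ≪≫
    Qh.mapIso ((HomotopyCategory.quotient _ _).mapIso θ) ≪≫ a.symm ≪≫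
    (DCoh.RpushEt X f).mapIso ((mapQo _ L).symm ≪≫ (EtShriek.extZero g').mapDerivedCategory.mapIso e)⟩

/-- Composites of derived direct images. -/
theorem nonempty_Rcomp {W X S : Scheme.{u}} (i : W ⟶ X) (f : X ⟶ S) [DCoh.HasRpushEt X f] [DCoh.HasRpushEt W i]
    [DCoh.HasRpushEt W (i ≫ f)] (K : DCoh.DEt W) :
    Nonempty ((DCoh.RpushEt W (i ≫ f)).obj K ≅ (DCoh.RpushEt X f).obj ((DCoh.RpushEt W i).obj K)) := by
  haveI := Groth.L27.EtSite.preservesFiniteLimits_pull i
  haveI := L10.EtBCComp.DComp.isIso_θ f i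
  exact ⟨(asIso (L10.EtBCComp.DComp.θ f i)).app K⟩

theorem nonempty_Rcongr {W S : Scheme.{u}} {f f' : W ⟶ S} (h : f = f') [DCoh.HasRpushEt W f] [DCoh.HasRpushEt W f']
    (K : DCoh.DEt W) : Nonempty ((DCoh.RpushEt W f).obj K ≅ (DCoh.RpushEt W f').obj K) := by
  subst h
  exact ⟨Iso.refl _⟩

end Groth.L27.RShriek
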