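import Groth.Agent.L10.EtCoprod.Rpush
import Groth.Agent.L27.RShriek.Squares
import Groth.Prelude.Def_DEt2
import Mathlib.Algebra.Homology.HomologicalComplexLimits

/-! # Direct images with proper support and direct sums -/

universe v u

open CategoryTheory CategoryTheory.Limits AlgebraicGeometry Opposite CategoryTheory.Abelian CochainComplex
attribute [local instance] HasDerivedCategory.standard

set_option autoImplicit false
set_option backward.defeqAttrib.useBackward true
set_option backward.isDefEq.respectTransparency false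
set_option backward.isDefEq.respectTransparency.types false
set_option linter.style.haveILetI false
set_option linter.unusedSectionVars false
set_option synthInstance.maxHeartbeats 100000

noncomputable section

namespace Groth.L27.RShriek

open Groth.L10 Groth.L10.EtCoprod Groth.L27.Colim

variable {X S : Scheme.{u}}

/-- Cocycles of bounded below acyclic complexes of acyclic sheaves on a qcqs object are coboundaries. -/
theorem exists_preimage_d_bddBelow (W : X.Etale) (hW : Qcqs W)
    (K : CochainComplex (EtCoh.Ab X) ℤ) (a : ℤ) [K.IsStrictlyGE a] (hK : K.Acyclic) (hA : ∀ p, Acy X (K.X p)) (i : ℤ)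
    (φ : freeSh W ⟶ K.X (i + 1)) (hφ : φ ≫ K.d (i + 1) (i + 1 + 1) = 0) :
    ∃ ψ : freeSh W ⟶ K.X i, ψ ≫ K.d i (i + 1) = φ := by
  have hT : ∀ i : ℤ, (ShortComplex.mk (K.iCycles i) (K.toCycles i (i + 1))
      (by rw [← cancel_mono (K.iCycles (i + 1))]; simp)).ShortExact := fun i => by
    refine { exact := ?_, mono_f := inferInstance, epi_g := epi_toCycles K hK i }
    rw [ShortComplex.exact_iff_exact_up_to_refinements]
    intro P x hx
    change x ≫ K.toCycles i (i + 1) = 0 at hx
    refine ⟨P, 𝟙 P, inferInstance, K.liftCycles x (i + 1) (by simp) ?_, ?_⟩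
    · rw [← K.toCycles_i i (i + 1), ← Category.assoc]
      exact (congrArg (fun e => e ≫ K.iCycles (i + 1)) hx).trans zero_comp
    · simp
  have hz : ∀ (k j : ℕ) (i : ℤ), i < a + k → Subsingleton (Ext (freeSh W) (K.cycles i) (j + 1)) := by
    intro k
    induction k with
    | zero =>
      intro j i hi
      have h0 : IsZero (K.cycles i) :=
        IsZero.of_mono (K.iCycles i) (CochainComplex.isZero_of_isStrictlyGE K a i (by omega))
      refine subsingleton_of_forall_eq 0 fun x => ?_
      rw [← Ext.comp_mk₀_id x, h0.eq_of_src (𝟙 _) 0, Ext.mk₀_zero, Ext.comp_zero]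
    | succ k ih =>
      intro j i hi
      refine subsingleton_of_forall_eq 0 fun x => ?_
      obtain ⟨i, rfl⟩ : ∃ i', i = i' + 1 := ⟨i - 1, by omega⟩
      haveI h1 := ih (j + 1) i (by omega)
      obtain ⟨y, hy⟩ := Ext.covariant_sequence_exact₃ (freeSh W) (hT i) x rfl (@Subsingleton.elim _ h1 _ _)
      rw [← hy, @Subsingleton.elim _ (hA i W hW j) y 0, Ext.zero_comp]
  let y := K.liftCycles φ (i + 1 + 1) (by simp) hφ
  obtain ⟨k, hk⟩ : ∃ k : ℕ, i < a + k := ⟨(i - a + 1).toNat, by omega⟩
  obtain ⟨z', hz'⟩ := Ext.covariant_sequence_exact₃ (freeSh W) (hT i) (Ext.mk₀ y) (zero_add 1)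
    (@Subsingleton.elim _ (hz k 0 i hk) _ _)
  obtain ⟨z, rfl⟩ := (Ext.mk₀_bijective (freeSh W) (K.X i)).2 z'
  have hzy : z ≫ K.toCycles i (i + 1) = y :=
    (Ext.mk₀_bijective _ _).1 ((Ext.mk₀_comp_mk₀ _ _).symm.trans hz')
  exact ⟨z, by rw [← K.toCycles_i i (i + 1), ← Category.assoc, hzy, K.liftCycles_i]⟩

variable (f : X ⟶ S) [QuasiCompact f] [QuasiSeparated f]

/-- Direct images of bounded below acyclic complexes of acyclic sheaves are acyclic. -/
theorem acyclic_push_bddBelow (K : CochainComplex (EtCoh.Ab X) ℤ) (a : ℤ) [K.IsStrictlyGE a] (hK : K.Acyclic)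
    (hA : ∀ p, Acy X (K.X p)) : (((EtCoh.push f).mapHomologicalComplex (.up ℤ)).obj K).Acyclic := by
  let P := ((EtCoh.push f).mapHomologicalComplex (.up ℤ)).obj K
  intro n
  obtain ⟨i, rfl⟩ : ∃ i, n = i + 1 := ⟨n - 1, by omega⟩
  have hloc : Sheaf.IsLocallySurjective (P.toCycles i (i + 1)) := ⟨fun {U} c => (EtSite.mem_topology_iff _).2 fun x => by
    obtain ⟨V, g, v, hv, hq⟩ := EtCoprod.exists_qcqs_nhd f U x
    refine ⟨V, g, v, ?_, hv⟩
    let c' := (P.cycles (i + 1)).obj.map g.op c
    let z : (K.X (i + 1)).obj.obj (op ((EtCoh.bc f).obj V)) := (P.iCycles (i + 1)).hom.app (op V) c'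
    obtain ⟨ψ, hψ⟩ := exists_preimage_d_bddBelow _ hq K a hK hA i ((homEquiv _ _).symm z) (by
      apply (homEquiv _ _).injective
      rw [homEquiv_comp, AddEquiv.apply_symm_apply, map_zero]
      exact congr($(P.iCycles_d (i + 1) (i + 1 + 1)).hom.app (op V) c'))
    refine ⟨homEquiv ((EtCoh.bc f).obj V) (K.X i) ψ, ?_⟩
    have hmono : Mono ((sheafToPresheaf S.smallEtaleTopology AddCommGrpCat.{u + 1}).map (P.iCycles (i + 1))) :=
      inferInstance
    apply (AddCommGrpCat.mono_iff_injective _).1 ((NatTrans.mono_iff_mono_app _).1 hmono (op V))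
    refine (congr($(P.toCycles_i i (i + 1)).hom.app (op V) (homEquiv ((EtCoh.bc f).obj V) (K.X i) ψ))).trans ?_
    show (K.d i (i + 1)).hom.app (op ((EtCoh.bc f).obj V)) (homEquiv ((EtCoh.bc f).obj V) (K.X i) ψ) = z
    rw [← homEquiv_comp, hψ, AddEquiv.apply_symm_apply]⟩
  haveI : Epi (P.toCycles i (i + 1)) := (Sheaf.isLocallySurjective_iff_epi' (φ := P.toCycles i (i + 1))).1 hloc
  rw [HomologicalComplex.exactAt_iff_isZero_homology]
  exact IsZero.of_epi_eq_zero (P.homologyπ (i + 1))
    (by rw [← cancel_epi (P.toCycles i (i + 1)), P.toCycles_comp_homologyπ, comp_zero])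

/-- Direct image preserves quasi-isomorphisms of bounded below complexes of acyclic sheaves. -/
theorem quasiIso_push_bddBelow {K L : CochainComplex (EtCoh.Ab X) ℤ} (φ : K ⟶ L) [QuasiIso φ] (a : ℤ)
    [K.IsStrictlyGE a] [L.IsStrictlyGE a] (hA : ∀ n, Acy X (K.X n)) (hB : ∀ n, Acy X (L.X n)) :
    QuasiIso (((EtCoh.push f).mapHomologicalComplex (.up ℤ)).map φ) := by
  have hK : (mappingCone φ).Acyclic := (L17.GrothSS.quasiIso_iff_cone φ).1 inferInstance
  haveI : (CochainComplex.mappingCone φ).IsStrictlyGE (a - 1) :=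
    CochainComplex.isStrictlyGE_mappingCone φ a a _ (by omega) (by omega)
  have hC : ∀ n, Acy X ((mappingCone φ).X n) := fun n => by
    refine (Acy X).prop_of_iso (HomologicalComplex.homotopyCofiber.XIsoBiprod φ n (n + 1) rfl).symm ?_
    refine fun W hW q => subsingleton_of_forall_eq 0 fun x => ?_
    rw [← Ext.comp_mk₀_id x, ← biprod.total, Ext.mk₀_add, Ext.comp_add,
      ← Ext.mk₀_comp_mk₀, ← Ext.mk₀_comp_mk₀, ← Ext.comp_assoc_of_third_deg_zero, ← Ext.comp_assoc_of_third_deg_zero,
      @Subsingleton.elim _ (hA (n + 1) W hW q) (x.comp (Ext.mk₀ biprod.fst) (add_zero _)) 0,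
      @Subsingleton.elim _ (hB n W hW q) (x.comp (Ext.mk₀ biprod.snd) (add_zero _)) 0, Ext.zero_comp, Ext.zero_comp,
      add_zero]
  rw [L17.GrothSS.quasiIso_iff_cone]
  exact fun n => (acyclic_push_bddBelow f _ (a - 1) hK hC n).of_iso (mappingCone.mapHomologicalComplexIso φ (EtCoh.push f))

/-- A functor on derived categories preserves a coproduct computed by complexes. -/
theorem preservesColimit_of_unit {A B : Type (u + 2)} [Category.{u + 1} A] [Abelian A] [Category.{u + 1} B] [Abelian B]
    [KInjDerived.EnoughKInjectives A] [KInjDerived.EnoughKInjectives B] {ι : Type v} [HasCoproductsOfShape ι A] [HasCoproductsOfShape ι B]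
    (G : A ⥤ B) [G.Additive] [PreservesColimitsOfShape (Discrete ι) G] (RF : DerivedCategory A ⥤ DerivedCategory B)
    (α : G.mapHomotopyCategory (ComplexShape.up ℤ) ⋙ DerivedCategory.Qh ⟶ DerivedCategory.Qh ⋙ RF)
    (K : ι → DerivedCategory A) (I : ι → CochainComplex A ℤ) (e : ∀ i, Qo (I i) ≅ K i)
    [∀ i, IsIso (α.app ((HomotopyCategory.quotient _ _).obj (I i)))]
    [IsIso (α.app ((HomotopyCategory.quotient _ _).obj (∐ I)))] :
    PreservesColimit (Discrete.functor K) RF := by
  let qX := HomotopyCategory.quotient A (ComplexShape.up ℤ)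
  let qS := HomotopyCategory.quotient B (ComplexShape.up ℤ)
  let GC := G.mapHomologicalComplex (ComplexShape.up ℤ)
  let c : Cofan K :=
    Cofan.mk (DerivedCategory.Qh.obj (qX.obj (∐ I))) fun i => (e i).inv ≫ DerivedCategory.Qh.map (qX.map (Sigma.ι I i))
  have hb := fun Y => DerivedProd.hom_from_coproduct_bijective I Y
  have hc : IsColimit c := Cofan.IsColimit.mk _
    (fun t => ((hb t.pt).surjective fun i => (e i).hom ≫ t.inj i).choose)
    (fun t i => by
      have := congrFun ((hb t.pt).surjective fun i => (e i).hom ≫ t.inj i).choose_spec i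
      simp only [c, cofan_mk_inj, Category.assoc]
      exact (congrArg ((e i).inv ≫ ·) this).trans ((e i).inv_hom_id_assoc _))
    (fun t m hm => (hb t.pt).injective (funext fun i => by
      refine Eq.trans ?_ (congrFun ((hb t.pt).surjective fun i => (e i).hom ≫ t.inj i).choose_spec i).symm
      rw [← hm i]
      simp only [c, cofan_mk_inj, Category.assoc, Iso.hom_inv_id_assoc]
      rfl))
  refine preservesColimit_of_preserves_colimit_cocone hc ((isColimitMapCoconeCofanMkEquiv _ _ _).2 ?_)
  haveI : ∀ n, PreservesColimit (Discrete.functor I) (GC ⋙ HomologicalComplex.eval B (ComplexShape.up ℤ) n) :=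
    fun n => inferInstanceAs (PreservesColimit (Discrete.functor I)
      (HomologicalComplex.eval A (ComplexShape.up ℤ) n ⋙ G))
  have hG : IsColimit (Cofan.mk (GC.obj (∐ I)) fun i => GC.map (Sigma.ι I i)) :=
    isColimitMapCoconeCofanMkEquiv GC _ _ (HomologicalComplex.isColimitOfEval _ _ fun n =>
      isColimitOfPreserves (GC ⋙ HomologicalComplex.eval B (ComplexShape.up ℤ) n) (coproductIsCoproduct I))
  let θ : (∐ fun i => GC.obj (I i)) ≅ GC.obj (∐ I) := (coproductIsCoproduct _).coconePointUniqueUpToIso hG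
  have hθ : ∀ i, Sigma.ι (fun i => GC.obj (I i)) i ≫ θ.hom = GC.map (Sigma.ι I i) := fun i =>
    (coproductIsCoproduct _).comp_coconePointUniqueUpToIso_hom hG ⟨i⟩
  have hbS := fun Y => DerivedProd.hom_from_coproduct_bijective (fun i => GC.obj (I i)) Y
  let a : DerivedCategory.Qh.obj (qS.obj (∐ fun i => GC.obj (I i))) ≅ RF.obj c.pt :=
    (DerivedCategory.Qh.mapIso (qS.mapIso θ)) ≪≫ asIso (α.app (qX.obj (∐ I)))
  let b : ∀ i, DerivedCategory.Qh.obj (qS.obj (GC.obj (I i))) ≅ RF.obj (K i) := fun i =>
    asIso (α.app (qX.obj (I i))) ≪≫ RF.mapIso (e i)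
  have key : ∀ i, (b i).hom ≫ RF.map (c.inj i) =
      DerivedCategory.Qh.map (qS.map (Sigma.ι (fun i => GC.obj (I i)) i)) ≫ a.hom := fun i => by
    simp only [a, b, c, Iso.trans_hom, asIso_hom, Functor.mapIso_hom, cofan_mk_inj, Category.assoc, ← RF.map_comp,
      Iso.hom_inv_id_assoc]
    rw [← Category.assoc, ← Functor.map_comp, ← Functor.map_comp, hθ i]
    exact (α.naturality (qX.map (Sigma.ι I i))).symm
  exact Cofan.IsColimit.mk _
    (fun t => a.inv ≫ ((hbS t.pt).surjective fun i => (b i).hom ≫ t.inj i).choose)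
    (fun t i => by
      have := congrFun ((hbS t.pt).surjective fun i => (b i).hom ≫ t.inj i).choose_spec i
      simp only [cofan_mk_inj]
      rw [← cancel_epi (b i).hom]
      refine ((Category.assoc _ _ _).symm.trans (congrArg (· ≫ (a.inv ≫ _)) (key i))).trans ?_
      exact (Category.assoc _ _ _).trans ((congrArg (_ ≫ ·) (a.hom_inv_id_assoc _)).trans this))
    (fun t m hm => by
      rw [← cancel_epi a.hom, Iso.hom_inv_id_assoc]
      refine (hbS t.pt).injective (funext fun i => ?_)
      refine Eq.trans ?_ (congrFun ((hbS t.pt).surjective fun i => (b i).hom ≫ t.inj i).choose_spec i).symm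
      rw [← hm i, cofan_mk_inj]
      exact (Category.assoc _ _ _).symm.trans ((congrArg (· ≫ m) (key i).symm).trans (Category.assoc _ _ _)))

/-- Bounded below objects have bounded below injective models. -/
theorem exists_injModel (K : DCoh.DEt X) (a : ℤ) [K.IsGE a] :
    ∃ I : CochainComplex (EtCoh.Ab X) ℤ, I.IsStrictlyGE a ∧ (∀ n, Injective (I.X n)) ∧ Nonempty (Qo I ≅ K) := by
  obtain ⟨L, hL, ⟨e⟩⟩ := DerivedCategory.exists_iso_Q_obj_of_isGE K a
  obtain ⟨I, i, hi, hI, hge⟩ := CochainComplex.Plus.modelCategoryQuillen.exists_quasiIso_injective L a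
  exact ⟨I, hge, hI, ⟨(DerivedCategory.quotientCompQhIso (EtCoh.Ab X)).app I ≪≫
    (asIso (DerivedCategory.Q.map i)).symm ≪≫ e.symm⟩⟩

/-- Direct images of bounded below families commute with direct sums. -/
theorem preservesColimit_RpushEt [DCoh.HasRpushEt X f] {ι : Type u} (K : ι → DCoh.DEt X) (a : ℤ)
    (hK : ∀ i, (K i).IsGE a) : PreservesColimit (Discrete.functor K) (DCoh.RpushEt X f) := by
  haveI : HasColimitsOfSize.{u, u} (EtCoh.Ab X) := hasColimitsOfSizeShrink.{u, u, u + 1, u + 1} _
  haveI : HasColimitsOfSize.{u, u} (EtCoh.Ab S) := hasColimitsOfSizeShrink.{u, u, u + 1, u + 1} _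
  haveI : PreservesColimitsOfShape (Discrete ι) (EtCoh.push f) := by
    haveI := preservesCoproducts_push f (ULift.{u + 1} ι)
    exact preservesColimitsOfShape_of_equiv (Discrete.equivalence Equiv.ulift) _
  choose I hge hinj hiso using fun i => haveI := hK i; exists_injModel (K i) a
  haveI := hge
  haveI : ∀ i n, Injective ((I i).X n) := hinj
  haveI : ∀ i, IsIso ((L10.EtBCComp.DComp.U f).app ((HomotopyCategory.quotient _ _).obj (I i))) := fun i =>
    PBC.isIso_unit_bddBelow f (I i) a fun n q hq => by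
      obtain ⟨k, rfl⟩ : ∃ k, q = k + 1 := ⟨q - 1, by omega⟩
      exact (EtCoh.push f).isZero_rightDerived_obj_injective_succ k _
  haveI : (∐ I).IsStrictlyGE a := (CochainComplex.isStrictlyGE_iff _ _).2 fun n hn =>
    (IsColimit.isZero_pt (coproductIsCoproduct fun i => (I i).X n)
      (Functor.isZero _ fun i => CochainComplex.isZero_of_isStrictlyGE (I i.as) a n hn)).of_iso
      (PreservesCoproduct.iso (HomologicalComplex.eval (EtCoh.Ab X) (ComplexShape.up ℤ) n) I)
  obtain ⟨J, t, ht, hJ, hJge⟩ := CochainComplex.Plus.modelCategoryQuillen.exists_quasiIso_injective (∐ I) a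
  haveI : ∀ m, Injective (J.X m) := hJ
  have hA : ∀ n, Acy X ((∐ I).X n) := fun n => by
    refine (Acy X).prop_of_iso (PreservesCoproduct.iso (HomologicalComplex.eval (EtCoh.Ab X) (ComplexShape.up ℤ) n) I).symm ?_
    let c : ULift.{u + 1} ι → EtCoh.Ab X := fun i => (I i.down).X n
    exact (Acy X).prop_of_iso (Sigma.whiskerEquiv (f := c) (g := fun i : ι => (I i).X n) Equiv.ulift fun i => Iso.refl _)
      (acy_coproduct c fun i => acy_injective _)
  haveI : QuasiIso (((EtCoh.push f).mapHomologicalComplex (.up ℤ)).map t) :=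
    quasiIso_push_bddBelow f t a hA fun n => acy_injective _
  haveI : IsIso ((L10.EtBCComp.DComp.U f).app ((HomotopyCategory.quotient _ _).obj (∐ I))) := by
    let η := L10.EtBCComp.DComp.U f
    haveI : IsIso (η.app ((HomotopyCategory.quotient _ _).obj J)) := PBC.isIso_unit_bddBelow f J a fun n q hq => by
      obtain ⟨k, rfl⟩ : ∃ k, q = k + 1 := ⟨q - 1, by omega⟩
      exact (EtCoh.push f).isZero_rightDerived_obj_injective_succ k _
    let w := (HomotopyCategory.quotient (EtCoh.Ab X) (ComplexShape.up ℤ)).map t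
    haveI : IsIso ((DCoh.pushEtKh X f).map w) := by
      change IsIso (DerivedCategory.Qh.map ((HomotopyCategory.quotient (EtCoh.Ab S) (ComplexShape.up ℤ)).map
        (((EtCoh.push f).mapHomologicalComplex (ComplexShape.up ℤ)).map t)))
      exact Localization.inverts DerivedCategory.Qh (HomotopyCategory.quasiIso _ (ComplexShape.up ℤ)) _
        ((HomotopyCategory.quotient_map_mem_quasiIso_iff _).2 ((HomologicalComplex.mem_quasiIso_iff _).2 inferInstance))
    haveI : IsIso ((DerivedCategory.Qh ⋙ DCoh.RpushEt X f).map w) :=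
      haveI := Localization.inverts DerivedCategory.Qh (HomotopyCategory.quasiIso _ (ComplexShape.up ℤ)) w
        ((HomotopyCategory.quotient_map_mem_quasiIso_iff _).2 ((HomologicalComplex.mem_quasiIso_iff _).2 inferInstance))
      inferInstanceAs (IsIso ((DCoh.RpushEt X f).map (DerivedCategory.Qh.map w)))
    haveI : IsIso (η.app _ ≫ (DerivedCategory.Qh ⋙ DCoh.RpushEt X f).map w) := by
      rw [← η.naturality w]; exact IsIso.comp_isIso
    exact IsIso.of_isIso_comp_right (η.app _) ((DerivedCategory.Qh ⋙ DCoh.RpushEt X f).map w)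
  exact preservesColimit_of_unit (EtCoh.push f) (DCoh.RpushEt X f) (L10.EtBCComp.DComp.U f) K I fun i => (hiso i).some

/-- Derived extensions by zero commute with direct sums. -/
theorem preservesColimit_extZeroD {U : Scheme.{u}} (j : U ⟶ X) [IsOpenImmersion j] {ι : Type u}
    (K : ι → DCoh.DEt U) : PreservesColimit (Discrete.functor K) (EtShriek.extZero j).mapDerivedCategory := by
  haveI : HasColimitsOfSize.{u, u} (EtCoh.Ab U) := hasColimitsOfSizeShrink.{u, u, u + 1, u + 1} _
  haveI : HasColimitsOfSize.{u, u} (EtCoh.Ab X) := hasColimitsOfSizeShrink.{u, u, u + 1, u + 1} _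
  haveI : PreservesColimitsOfShape (Discrete ι) (EtShriek.extZero j) :=
    haveI : PreservesColimitsOfSize.{u, u} (EtShriek.extZero j) := (EtShriek.extZeroAdj j).leftAdjoint_preservesColimits
    inferInstance
  choose I hiso using fun i => exists_Qo (K i)
  let α := (EtShriek.extZero j).mapDerivedCategoryFactorsh.inv
  haveI : ∀ A, IsIso (α.app A) := fun A => inferInstance
  exact preservesColimit_of_unit (EtShriek.extZero j) _ α K I fun i => (hiso i).some

/-- Direct images with proper support commute with bounded below direct sums of torsion objects. -/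
theorem preservesColimit_Rshriek {Y : Scheme.{u}} {g : X ⟶ Y} (c : DEt.Compactification g)
    [DCoh.HasRpushEt c.Xbar c.fbar] {ι : Type u} (K : ι → DCoh.DEt X) (a : ℤ)
    (hK : ∀ i, (K i).IsGE a) : PreservesColimit (Discrete.functor K) (DEt.Rshriek c) := by
  haveI := preservesColimit_extZeroD c.j K
  have h : ∀ i, ((EtShriek.extZero c.j).mapDerivedCategory.obj (K i)).IsGE a := fun i =>
    (DerivedCategory.isGE_iff _ a).2 fun n hn =>
      (((EtShriek.extZero c.j).map_isZero ((DerivedCategory.isGE_iff _ a).1 (hK i) n hn))).of_iso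
        ((L29.ExactHomology.hIso (EtShriek.extZero c.j) n).app (K i))
  haveI := preservesColimit_RpushEt c.fbar _ a h
  haveI : PreservesColimit (Discrete.functor K ⋙ (EtShriek.extZero c.j).mapDerivedCategory) (DCoh.RpushEt c.Xbar c.fbar) :=
    preservesColimit_of_iso_diagram _ (Discrete.natIso fun _ => Iso.refl _ :
      Discrete.functor (fun i => (EtShriek.extZero c.j).mapDerivedCategory.obj (K i)) ≅
        Discrete.functor K ⋙ (EtShriek.extZero c.j).mapDerivedCategory)
  infer_instance

end Groth.L27.RShriek
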