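import Groth.Agent.L27.RShriek.Indep
import Groth.Agent.L27.PBC.BcMap
import Groth.Agent.L27.ExtZero.Unique
import Groth.Agent.L28.CurveCd.FieldVanish
import Groth.Prelude.Def_EtCore

/-! # Base change for direct images with proper support -/

universe u

open CategoryTheory CategoryTheory.Limits AlgebraicGeometry Opposite

attribute [local instance] HasDerivedCategory.standard

set_option autoImplicit false
set_option backward.isDefEq.respectTransparency.types false
set_option linter.style.haveILetI false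
set_option linter.unusedSectionVars false
set_option synthInstance.maxHeartbeats 100000

noncomputable section

namespace Groth.L27.RShriek

/-- Inverse images of bounded below torsion objects. -/
theorem bt_pull {X Y : Scheme.{u}} (g : X ⟶ Y) [PreservesFiniteLimits (EtCoh.pull g)] {K : DCoh.DEt Y}
    (hK : BT K) : BT ((EtBC.pullD g).obj K) := by
  obtain ⟨⟨n, hn⟩, ht⟩ := hK
  refine ⟨⟨n, (DerivedCategory.isGE_iff _ n).2 fun i hi => ?_⟩, fun i => ?_⟩
  · exact ((EtCoh.pull g).map_isZero ((DerivedCategory.isGE_iff K n).1 hn i hi)).of_iso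
      ((L29.ExactHomology.hIso (EtCoh.pull g) i).app K)
  · exact Colim.isTorsion_of_iso ((L29.ExactHomology.hIso (EtCoh.pull g) i).app K).symm
      (L28.CurveCd.isTorsion_pull g (ht i))

variable {U Xb U' Xb' : Scheme.{u}} {j : U ⟶ Xb} {g : Xb' ⟶ Xb} {j' : U' ⟶ Xb'} {g' : U' ⟶ U}
  [IsOpenImmersion j] [IsOpenImmersion j']

/-- Inverse image commutes with extension by zero. -/
theorem nonempty_extZero_pull (h : IsPullback g' j' j g) :
    Nonempty (EtShriek.extZero j ⋙ EtCoh.pull g ≅ EtCoh.pull g' ⋙ EtShriek.extZero j') := by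
  haveI := (Groth.L27.ExtZero.isIso_counit_of_mono j).2
  haveI := (Groth.L27.ExtZero.isIso_counit_of_mono j').2
  let N := EtShriek.extZero j
  let σ : EtCoh.pull g' ≅ (N ⋙ EtCoh.pull g) ⋙ EtShriek.restrAlong j' :=
    (EtCoh.pull g').leftUnitor.symm ≪≫
    Functor.isoWhiskerRight (asIso (EtShriek.extZeroAdj j).unit) (EtCoh.pull g') ≪≫ Functor.associator _ _ _ ≪≫
    Functor.isoWhiskerLeft N (Functor.isoWhiskerRight (Groth.L27.ExtZero.pullRestr j).symm (EtCoh.pull g') ≪≫
      (EtCore.pullComp g' j).symm ≪≫ EtCore.pullCongr h.w ≪≫ EtCore.pullComp j' g ≪≫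
      Functor.isoWhiskerLeft (EtCoh.pull g) (Groth.L27.ExtZero.pullRestr j')) ≪≫ (Functor.associator _ _ _).symm
  let τ : EtCoh.pull g' ⋙ EtShriek.extZero j' ⟶ N ⋙ EtCoh.pull g :=
    { app := fun F => ((EtShriek.extZeroAdj j').homEquiv _ _).symm (σ.hom.app F)
      naturality := fun F G a => by
        refine ((EtShriek.extZeroAdj j').homEquiv_naturality_left_symm _ _).symm.trans ?_
        refine (congrArg _ (σ.hom.naturality a)).trans ?_
        exact (EtShriek.extZeroAdj j').homEquiv_naturality_right_symm _ _ }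
  haveI : ∀ F, IsIso (τ.app F) := fun F => by
    haveI : IsIso ((EtShriek.restrAlong j').map (τ.app F)) := by
      have e : (EtShriek.extZeroAdj j').unit.app _ ≫ (EtShriek.restrAlong j').map (τ.app F) = σ.hom.app F :=
        ((EtShriek.extZeroAdj j').homEquiv_unit _ _ _).symm.trans (Equiv.apply_symm_apply _ _)
      haveI : IsIso ((EtShriek.extZeroAdj j').unit.app _ ≫ (EtShriek.restrAlong j').map (τ.app F)) := e ▸ inferInstance
      exact IsIso.of_isIso_comp_left ((EtShriek.extZeroAdj j').unit.app _) _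
    refine Groth.L27.ExtZero.isIso_of_restrAlong j' _ fun Ω _ _ ξ hξ =>
      ⟨Groth.L27.ExtZero.isZero_stalk_extZero_of_outside j' ξ hξ _, ?_⟩
    refine IsZero.of_iso ?_ ((Groth.L27.EtSite.stalkPullIso g ξ).app _)
    refine Groth.L27.ExtZero.isZero_stalk_extZero_of_outside j (ξ ≫ g) ?_ F
    rintro - ⟨z, rfl⟩ hz
    have hr : Set.range (ξ ≫ g) ⊆ Set.range j := by
      rintro - ⟨z', rfl⟩; rw [Subsingleton.elim (α := Spec (CommRingCat.of Ω)) z' z]; exact hz
    let v := h.lift (IsOpenImmersion.lift j (ξ ≫ g) hr) ξ (IsOpenImmersion.lift_fac _ _ _)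
    have hv : v ≫ j' = ξ := h.lift_snd _ _ _
    exact hξ ⟨default, rfl⟩ ⟨v default, (Scheme.Hom.comp_apply _ _ _).symm.trans congr($hv default)⟩
  haveI := NatIso.isIso_of_isIso_app τ
  exact ⟨(asIso τ).symm⟩

/-- Base change for direct images with proper support. -/
theorem nonempty_baseChange_Rshriek {X Y X' Y' : Scheme.{u}} {f : X ⟶ Y} {g : Y' ⟶ Y} {f' : X' ⟶ Y'} {g' : X' ⟶ X}
    (hc : IsPullback g' f' f g) [QuasiCompact f] (c : DEt.Compactification f) [DCoh.HasRpushEt c.Xbar c.fbar]
    (c' : DEt.Compactification f') [DCoh.HasRpushEt c'.Xbar c'.fbar] [PreservesFiniteLimits (EtCoh.pull g)]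
    [PreservesFiniteLimits (EtCoh.pull g')] {K : DCoh.DEt X} (hK : BT K) :
    Nonempty ((EtBC.pullD g).obj ((DEt.Rshriek c).obj K) ≅ (DEt.Rshriek c').obj ((EtBC.pullD g').obj K)) := by
  haveI : QuasiCompact f' := MorphismProperty.of_isPullback (P := @QuasiCompact) hc ‹QuasiCompact f›
  let g'' := pullback.fst c.fbar g
  let fb' := pullback.snd c.fbar g
  let j0 : X' ⟶ pullback c.fbar g := pullback.lift (g' ≫ c.j) f' (by rw [Category.assoc, c.fac, hc.w])
  have h1 : j0 ≫ g'' = g' ≫ c.j := pullback.lift_fst _ _ _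
  have sq : IsPullback g' j0 c.j g'' := by
    refine IsPullback.of_bot ?_ h1.symm (IsPullback.of_hasPullback c.fbar g)
    rw [pullback.lift_snd, c.fac]
    exact hc
  haveI : IsOpenImmersion j0 := MorphismProperty.of_isPullback (P := @IsOpenImmersion) sq inferInstance
  haveI : IsProper fb' := MorphismProperty.pullback_snd (P := @IsProper) _ _ inferInstance
  haveI := L10.EtLocalBC.hasRpushEt g
  haveI := L10.EtLocalBC.hasRpushEt fb'
  haveI := Groth.L27.EtSite.preservesFiniteLimits_pull g''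
  let c0 : DEt.Compactification f' :=
    { Xbar := pullback c.fbar g
      j := j0
      fbar := fb'
      isOpenImmersion := inferInstance
      isProper := inferInstance
      fac := pullback.lift_snd _ _ _ }
  haveI : DCoh.HasRpushEt c0.Xbar c0.fbar := L10.EtLocalBC.hasRpushEt c0.fbar
  have hE := bt_extZero c.j hK
  obtain ⟨⟨n, hn⟩, ht⟩ := hE
  haveI := hn
  haveI := PBC.isIso_bcMap c.fbar g fb' g'' (IsPullback.of_hasPullback c.fbar g) (L10.EtLocalBC.adjEt g)
    ((EtShriek.extZero c.j).mapDerivedCategory.obj K) n ht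
  obtain ⟨φ⟩ := nonempty_extZero_pull sq
  obtain ⟨t⟩ := nonempty_comp₂ (EtShriek.extZero c.j) (EtCoh.pull g'') (EtCoh.pull g') (EtShriek.extZero j0) φ K
  obtain ⟨a⟩ := nonempty_indep c0 c' (bt_pull g' hK)
  exact ⟨asIso (EtBC.bcMap c.fbar g fb' g'' pullback.condition (L10.EtLocalBC.adjEt g)
      ((EtShriek.extZero c.j).mapDerivedCategory.obj K)) ≪≫ (DCoh.RpushEt _ fb').mapIso t ≪≫ a⟩

end Groth.L27.RShriek
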