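import Groth.Agent.L27.RShriek.Squares
import Groth.Prelude.Def_DEt2
import Mathlib.AlgebraicGeometry.Morphisms.Immersion
import Mathlib.AlgebraicGeometry.Morphisms.Proper

/-! # Direct images with proper support: independence of the compactification and composition -/

universe u

open CategoryTheory CategoryTheory.Limits AlgebraicGeometry Opposite

attribute [local instance] HasDerivedCategory.standard

set_option autoImplicit false
set_option backward.isDefEq.respectTransparency.types false
set_option linter.style.haveILetI false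
set_option linter.unusedSectionVars false
set_option synthInstance.maxHeartbeats 100000

noncomputable section

namespace Groth.L27.RShriek

variable {X Y : Scheme.{u}} {f : X ⟶ Y}

/-- A map of compactifications induces an isomorphism. -/
theorem nonempty_indep_of_map (c c' : DEt.Compactification f) [DCoh.HasRpushEt c.Xbar c.fbar]
    [DCoh.HasRpushEt c'.Xbar c'.fbar] (h : c'.Xbar ⟶ c.Xbar) [IsProper h] (h₁ : c'.j ≫ h = c.j)
    (h₂ : h ≫ c.fbar = c'.fbar) {K : DCoh.DEt X} (hK : BT K) :
    Nonempty ((DEt.Rshriek c').obj K ≅ (DEt.Rshriek c).obj K) := by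
  haveI := L10.EtLocalBC.hasRpushEt h
  haveI := L10.EtLocalBC.hasRpushEt (h ≫ c.fbar)
  obtain ⟨a⟩ := nonempty_Rcongr h₂.symm ((EtShriek.extZero c'.j).mapDerivedCategory.obj K)
  obtain ⟨b⟩ := nonempty_Rcomp h c.fbar ((EtShriek.extZero c'.j).mapDerivedCategory.obj K)
  obtain ⟨t⟩ := nonempty_tri c'.j h c.j h₁ hK
  exact ⟨a ≪≫ b ≪≫ (DCoh.RpushEt c.Xbar c.fbar).mapIso t⟩

/-- Independence of the compactification. -/
theorem nonempty_indep [QuasiCompact f] (c c' : DEt.Compactification f) [DCoh.HasRpushEt c.Xbar c.fbar]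
    [DCoh.HasRpushEt c'.Xbar c'.fbar] {K : DCoh.DEt X} (hK : BT K) :
    Nonempty ((DEt.Rshriek c).obj K ≅ (DEt.Rshriek c').obj K) := by
  let p := pullback.fst c.fbar c'.fbar
  let p' := pullback.snd c.fbar c'.fbar
  let i : X ⟶ pullback c.fbar c'.fbar := pullback.lift c.j c'.j (c.fac.trans c'.fac.symm)
  have hi : i ≫ p = c.j := pullback.lift_fst _ _ _
  have hi' : i ≫ p' = c'.j := pullback.lift_snd _ _ _
  haveI : IsImmersion i := by
    haveI : IsImmersion (i ≫ p) := by rw [hi]; infer_instance
    exact IsImmersion.of_comp i p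
  haveI : QuasiCompact i := by
    haveI : QuasiCompact (i ≫ (p ≫ c.fbar)) := by
      rw [← Category.assoc, hi, c.fac]; infer_instance
    exact QuasiCompact.of_comp i (p ≫ c.fbar)
  haveI : IsProper p := MorphismProperty.pullback_fst (P := @IsProper) _ _ inferInstance
  haveI : IsProper p' := MorphismProperty.pullback_snd (P := @IsProper) _ _ inferInstance
  let c'' : DEt.Compactification f :=
    { Xbar := i.image
      j := i.toImage
      fbar := i.imageι ≫ p ≫ c.fbar
      isOpenImmersion := inferInstance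
      isProper := inferInstance
      fac := by rw [Scheme.Hom.toImage_imageι_assoc, reassoc_of% hi, c.fac] }
  haveI := L10.EtLocalBC.hasRpushEt c''.fbar
  obtain ⟨a⟩ := nonempty_indep_of_map c c'' (i.imageι ≫ p)
    (show i.toImage ≫ i.imageι ≫ p = c.j by rw [Scheme.Hom.toImage_imageι_assoc, hi]) (Category.assoc _ _ _) hK
  obtain ⟨b⟩ := nonempty_indep_of_map c' c'' (i.imageι ≫ p')
    (show i.toImage ≫ i.imageι ≫ p' = c'.j by rw [Scheme.Hom.toImage_imageι_assoc, hi'])
    (show (i.imageι ≫ p') ≫ c'.fbar = i.imageι ≫ p ≫ c.fbar by rw [Category.assoc, pullback.condition]) hK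
  exact ⟨a.symm ≪≫ b⟩

/-- Direct images with proper support compose. -/
theorem nonempty_comp_Rshriek {Z : Scheme.{u}} {g : Y ⟶ Z} [QuasiCompact f] [QuasiCompact g]
    (c : DEt.Compactification f) [DCoh.HasRpushEt c.Xbar c.fbar]
    (d : DEt.Compactification g) [DCoh.HasRpushEt d.Xbar d.fbar]
    (e : DEt.Compactification (f ≫ g)) [DCoh.HasRpushEt e.Xbar e.fbar] {K : DCoh.DEt X} (hK : BT K) :
    Nonempty ((DEt.Rshriek d).obj ((DEt.Rshriek c).obj K) ≅ (DEt.Rshriek e).obj K) := by
  let p := pullback.fst e.fbar d.fbar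
  let p' := pullback.snd e.fbar d.fbar
  let i : X ⟶ pullback e.fbar d.fbar := pullback.lift e.j (f ≫ d.j) (by rw [e.fac, Category.assoc, d.fac])
  have hi : i ≫ p = e.j := pullback.lift_fst _ _ _
  have hi' : i ≫ p' = f ≫ d.j := pullback.lift_snd _ _ _
  haveI : IsImmersion i := by
    haveI : IsImmersion (i ≫ p) := by rw [hi]; infer_instance
    exact IsImmersion.of_comp i p
  haveI : IsProper p := MorphismProperty.pullback_fst (P := @IsProper) _ _ inferInstance
  haveI : IsProper p' := MorphismProperty.pullback_snd (P := @IsProper) _ _ inferInstance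
  haveI : QuasiCompact i := by
    haveI : QuasiCompact (i ≫ (p ≫ e.fbar)) := by
      rw [← Category.assoc, hi, e.fac]; infer_instance
    exact QuasiCompact.of_comp i (p ≫ e.fbar)
  let kk := i.imageι ≫ p'
  have hk : i.toImage ≫ kk = f ≫ d.j := by rw [Scheme.Hom.toImage_imageι_assoc, hi']
  let i' := pullback.fst kk d.j
  let q := pullback.snd kk d.j
  haveI : IsOpenImmersion i' := MorphismProperty.pullback_fst (P := @IsOpenImmersion) _ _ inferInstance
  haveI : IsProper q := MorphismProperty.pullback_snd (P := @IsProper) _ _ inferInstance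
  let j2 : X ⟶ pullback kk d.j := pullback.lift i.toImage f hk
  have hj2 : j2 ≫ i' = i.toImage := pullback.lift_fst _ _ _
  haveI : IsOpenImmersion j2 := by
    haveI : IsOpenImmersion (j2 ≫ i') := by rw [hj2]; infer_instance
    exact IsOpenImmersion.of_comp j2 i'
  let c'' : DEt.Compactification f :=
    { Xbar := pullback kk d.j
      j := j2
      fbar := q
      isOpenImmersion := inferInstance
      isProper := inferInstance
      fac := pullback.lift_snd _ _ _ }
  let e'' : DEt.Compactification (f ≫ g) :=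
    { Xbar := i.image
      j := i.toImage
      fbar := kk ≫ d.fbar
      isOpenImmersion := inferInstance
      isProper := inferInstance
      fac := by rw [reassoc_of% hk, d.fac] }
  haveI := L10.EtLocalBC.hasRpushEt c''.fbar
  haveI := L10.EtLocalBC.hasRpushEt e''.fbar
  haveI := L10.EtLocalBC.hasRpushEt q
  haveI := L10.EtLocalBC.hasRpushEt kk
  haveI := L10.EtLocalBC.hasRpushEt (kk ≫ d.fbar)
  obtain ⟨a⟩ := nonempty_indep c c'' hK
  have hK2 := bt_extZero j2 hK
  obtain ⟨b⟩ := nonempty_sq kk d.j q i' pullback.condition hK2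
  let φ : EtShriek.extZero j2 ⋙ EtShriek.extZero i' ≅ EtShriek.extZero i.toImage :=
    Functor.isoWhiskerRight (Groth.L27.ExtZero.shriekIso j2) _ ≪≫
      Functor.isoWhiskerLeft _ (Groth.L27.ExtZero.shriekIso i') ≪≫ (Groth.L27.Supp.compIso j2 i').symm ≪≫
      Groth.L27.Supp.shriekCongr hj2 ≪≫ (Groth.L27.ExtZero.shriekIso i.toImage).symm
  obtain ⟨t⟩ := nonempty_comp (EtShriek.extZero j2) (EtShriek.extZero i') (EtShriek.extZero i.toImage) φ K
  obtain ⟨r⟩ := nonempty_Rcomp kk d.fbar ((EtShriek.extZero i.toImage).mapDerivedCategory.obj K)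
  obtain ⟨s⟩ := nonempty_indep e'' e hK
  exact ⟨(DEt.Rshriek d).mapIso a ≪≫
    (DCoh.RpushEt d.Xbar d.fbar).mapIso (b ≪≫ (DCoh.RpushEt _ kk).mapIso t) ≪≫ r.symm ≪≫ s⟩

end Groth.L27.RShriek
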