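import Groth.Agent.L27.RShriek.PlusObj
import Groth.Agent.L27.RShriek.Bounded
import Groth.Agent.L27.PBC.ModUnbdd
import Groth.Agent.L28.ExtShriekMod.BaseChange
import Groth.Agent.L28.ExtShriekMod.Split
import Groth.Prelude.Def_EtDl

/-! # Amplitude of direct images with proper support of modules -/

set_option autoImplicit false
set_option backward.defeqAttrib.useBackward true
set_option backward.isDefEq.respectTransparency false
set_option backward.isDefEq.respectTransparency.types false
set_option linter.style.haveILetI false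
set_option linter.unusedSectionVars false
set_option maxHeartbeats 800000
set_option synthInstance.maxHeartbeats 100000

universe u

open CategoryTheory CategoryTheory.Limits AlgebraicGeometry Opposite

attribute [local instance] HasDerivedCategory.standard

noncomputable section

namespace Groth.L27.RShriek

variable {Λ : Type (u + 1)} [CommRing Λ] {U X : Scheme.{u}} (j : U ⟶ X) [IsOpenImmersion j] [EtShriek.JCont j]

theorem isZero_stalk_forget_extZeroMod (F : EtModW.Mod Λ U) (Ω : Type u) [Field Ω] [IsSepClosed Ω]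
    (ξ : Spec (CommRingCat.of Ω) ⟶ X) (hξ : Set.range ξ.base ⊆ (Set.range j.base)ᶜ) :
    IsZero ((EtCoh.stalk ξ).obj ((EtModD.forgetToAb Λ X).obj ((EtDl.extZeroMod Λ j).obj F))) := by
  haveI := Groth.L27.SepClosedPoint.isSepClosed_residueField Ω
  haveI : IsEmpty ↥(pullback j ξ) := ⟨fun z => hξ ⟨pullback.snd j ξ z, rfl⟩
    ⟨pullback.fst j ξ z, congr($(pullback.condition (f := j) (g := ξ)) z)⟩⟩
  haveI : AlgebraicGeometry.Etale (pullback.snd j ξ) :=
    MorphismProperty.pullback_snd (P := @AlgebraicGeometry.Etale) _ _ inferInstance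
  haveI := ExtZero.jCont (pullback.snd j ξ)
  have h0 : IsZero ((EtModW.pull Λ ξ).obj ((EtDl.extZeroMod Λ j).obj F)) :=
    ((EtSix.extZeroMod Λ (pullback.snd j ξ)).map_isZero (L28.ExtShriekMod.isZero_of_isEmpty _)).of_iso
      ((L28.ExtShriekMod.extZeroPullIso Λ (IsPullback.of_hasPullback j ξ)).app F)
  haveI : IsIso (EtSite.closedPt Ω) := by
    haveI : IsIso (CommRingCat.ofHom (IsLocalRing.residue Ω)) :=
      (ConcreteCategory.isIso_iff_bijective _).2 ⟨(IsLocalRing.residue Ω).injective, IsLocalRing.residue_surjective⟩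
    exact inferInstanceAs (IsIso (Spec.map (CommRingCat.ofHom (IsLocalRing.residue Ω))))
  let G := (EtModD.forgetToAb Λ X).obj ((EtDl.extZeroMod Λ j).obj F)
  have h2 : IsZero ((EtCoh.pull ξ).obj G) :=
    ((EtModD.forgetToAb Λ _).map_isZero h0).of_iso ((PBC.ModPull.pullIso Λ ξ).app _)
  exact (((EtCoh.stalk (EtSite.closedPt Ω)).map_isZero h2).of_iso
    ((EtSite.stalkPullIso ξ (EtSite.closedPt Ω)).symm.app G)).of_iso
    ((PBC.stalkIsoComp ξ (EtSite.closedPt Ω)).app G)

theorem nonempty_restr_forget_extZeroMod (F : EtModW.Mod Λ U) :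
    Nonempty ((EtShriek.restrAlong j).obj ((EtModD.forgetToAb Λ X).obj ((EtDl.extZeroMod Λ j).obj F)) ≅
      (EtModD.forgetToAb Λ U).obj F) := by
  haveI : IsIso ((EtDl.extZeroModAdj Λ j).unit.app F) :=
    haveI := L28.ExtShriekMod.isIso_unit (Λ := Λ) j
    inferInstanceAs (IsIso ((EtSix.extZeroModAdj Λ j).unit.app F))
  exact ⟨((EtModD.forgetToAb Λ U).mapIso (asIso ((EtDl.extZeroModAdj Λ j).unit.app F))).symm⟩

theorem nonempty_forget_extZeroMod (F : EtModW.Mod Λ U) :
    Nonempty ((EtModD.forgetToAb Λ X).obj ((EtDl.extZeroMod Λ j).obj F) ≅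
      (EtShriek.extZero j).obj ((EtModD.forgetToAb Λ U).obj F)) :=
  ExtZero.nonempty_iso_extZero j _ _ (nonempty_restr_forget_extZeroMod j F) fun Ω _ _ ξ hξ =>
    isZero_stalk_forget_extZeroMod j F Ω ξ hξ

instance preservesFiniteLimits_extZeroMod : PreservesFiniteLimits (EtDl.extZeroMod Λ j) := by
  haveI : (EtDl.extZeroMod Λ j).PreservesMonomorphisms := ⟨fun {F G} φ _ => by
    refine (EtModD.forgetToAb Λ X).mono_of_mono_map ?_
    refine (EtSite.mono_iff_stalks _).2 fun Ω _ _ ξ => ?_
    by_cases hx : ξ.base default ∈ Set.range j.base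
    · have hr : Set.range ξ ⊆ Set.range j := by
        rintro - ⟨z, rfl⟩; rwa [Subsingleton.elim z default]
      obtain ⟨v, rfl⟩ : ∃ v, v ≫ j = ξ := ⟨IsOpenImmersion.lift j ξ hr, IsOpenImmersion.lift_fac j ξ hr⟩
      haveI := L28.ExtShriekMod.isIso_unit (Λ := Λ) j
      let e := asIso (EtSix.extZeroModAdj Λ j).unit
      haveI : Mono ((EtDl.restrMod Λ j).map ((EtDl.extZeroMod Λ j).map φ)) :=
        ((MorphismProperty.monomorphisms _).arrow_mk_iso_iff
          (((Functor.mapArrowFunctor _ _).mapIso e).app (Arrow.mk φ))).1 (inferInstanceAs (Mono φ))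
      haveI : Mono ((EtModD.forgetToAb Λ U).map ((EtDl.restrMod Λ j).map ((EtDl.extZeroMod Λ j).map φ))) :=
        inferInstance
      haveI : Mono ((EtShriek.restrAlong j).map ((EtModD.forgetToAb Λ X).map ((EtDl.extZeroMod Λ j).map φ))) := this
      haveI : Mono ((EtCoh.pull j).map ((EtModD.forgetToAb Λ X).map ((EtDl.extZeroMod Λ j).map φ))) :=
        ((MorphismProperty.monomorphisms _).arrow_mk_iso_iff
          (((Functor.mapArrowFunctor _ _).mapIso (ExtZero.pullRestr j)).app
            (Arrow.mk ((EtModD.forgetToAb Λ X).map ((EtDl.extZeroMod Λ j).map φ))))).2 this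
      have hm := (EtSite.mono_iff_stalks _).1 this Ω v
      haveI : Mono ((EtCoh.stalk v).map ((EtCoh.pull j).map ((EtModD.forgetToAb Λ X).map ((EtDl.extZeroMod Λ j).map φ)))) :=
        (AddCommGrpCat.mono_iff_injective _).2 hm
      exact (AddCommGrpCat.mono_iff_injective _).1 (((MorphismProperty.monomorphisms _).arrow_mk_iso_iff
        (((Functor.mapArrowFunctor _ _).mapIso (EtSite.stalkPullIso j v)).app
          (Arrow.mk ((EtModD.forgetToAb Λ X).map ((EtDl.extZeroMod Λ j).map φ))))).1 this)
    · haveI := AddCommGrpCat.subsingleton_of_isZero (isZero_stalk_forget_extZeroMod j F Ω ξ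
        (by rintro - ⟨z, rfl⟩; rwa [Subsingleton.elim z default]))
      exact fun a b _ => @Subsingleton.elim _ this a b⟩
  haveI : PreservesFiniteColimits (EtDl.extZeroMod Λ j) := inferInstance
  haveI := Functor.preservesHomology_of_preservesMonos_and_cokernels (EtDl.extZeroMod Λ j)
  exact Functor.preservesFiniteLimits_of_preservesHomology _

variable {S : Scheme.{u}} (p : X ⟶ S) [IsProper p] (d : ℕ)
  (hdim : ∀ s : S, topologicalKrullDim ↥((j ≫ p).fiber s) ≤ d) {n : ℕ} (hn : 0 < n) (hΛ : (n : Λ) = 0)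

include hdim hn hΛ in
/-- Module direct images with proper support vanish above twice the fibre dimension. -/
theorem isZero_rightDerived_push_extZeroMod (F : EtModW.Mod Λ U) (q : ℕ) (hq : 2 * d < q) :
    IsZero (((EtModW.push Λ p).rightDerived q).obj ((EtDl.extZeroMod Λ j).obj F)) := by
  let M := (EtDl.extZeroMod Λ j).obj F
  let W := EtModD.forgetToAb Λ X
  haveI : W.PreservesHomology := inferInstance
  let I := injectiveResolution M
  let aug := RDer.mapAug W I.ι
  haveI : QuasiIso aug := by
    haveI := HomologicalComplex.quasiIso_map_of_preservesHomology I.ι W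
    dsimp only [aug, RDer.mapAug]
    infer_instance
  haveI := PBC.ModU.preservesFiniteLimits_push p
  obtain ⟨a⟩ := PBC.nonempty_homology_iso_rightDerived (EtCoh.push p) (W.obj M)
    ((W.mapHomologicalComplex _).obj I.cocomplex) aug
    (fun m => haveI := I.injective m; PBC.ModU.acyc_injective p (I.cocomplex.X m)) q
  obtain ⟨e⟩ := nonempty_forget_extZeroMod j F
  have hz : IsZero ((EtCoh.Rpush p q).obj (W.obj M)) :=
    (PBC.isZero_Rpush_shriek_dim j p d hdim _ (PBC.ModU.isTorsion_forget hn hΛ F) q hq).of_iso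
      ((EtCoh.Rpush p q).mapIso (e ≪≫ (ExtZero.shriekIso j).app _))
  let K := ((EtModW.push Λ p).mapHomologicalComplex (ComplexShape.up ℕ)).obj I.cocomplex
  have hK : IsZero ((EtModD.forgetToAb Λ S).obj (K.homology q)) :=
    (hz.of_iso a).of_iso ((K.sc q).mapHomologyIso (EtModD.forgetToAb Λ S)).symm
  exact ((IsZero.iff_id_eq_zero _).2 ((EtModD.forgetToAb Λ S).map_injective (hK.eq_of_src _ _))).of_iso
    (I.isoRightDerivedObj (EtModW.push Λ p) q)

end Groth.L27.RShriek
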