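import Groth.Agent.L27.PBC.BcMap
import Groth.Agent.L29.Dual.ExactHomology

/-! # Models for bounded below torsion objects and exact functors -/

universe u

open CategoryTheory CategoryTheory.Limits AlgebraicGeometry Opposite

attribute [local instance] HasDerivedCategory.standard

set_option autoImplicit false
set_option backward.isDefEq.respectTransparency false
set_option backward.isDefEq.respectTransparency.types false
set_option backward.defeqAttrib.useBackward true
set_option linter.style.haveILetI false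
set_option linter.unusedSectionVars false
set_option synthInstance.maxHeartbeats 100000

noncomputable section

namespace Groth.L27.RShriek

open DerivedCategory

/-- The image of a complex in the derived category. -/
abbrev Qo {C : Type*} [Category C] [Abelian C] [HasDerivedCategory C] (L : CochainComplex C ℤ) :
    DerivedCategory C := Qh.obj ((HomotopyCategory.quotient _ _).obj L)

/-- Bounded below objects with torsion cohomology. -/
def BT {X : Scheme.{u}} (K : DCoh.DEt X) : Prop :=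
  (∃ n : ℤ, K.IsGE n) ∧ ∀ i : ℤ, EtCoh.IsTorsion (DCoh.HDEt K i)

theorem bt_mk {X : Scheme.{u}} (K : DCoh.DEt X) (hb : ∃ a : ℤ, ∀ n : ℤ, n < a → IsZero (DCoh.HDEt K n))
    (ht : ∀ i : ℤ, EtCoh.IsTorsion (DCoh.HDEt K i)) : BT K :=
  ⟨hb.imp fun a ha => (DerivedCategory.isGE_iff K a).2 ha, ht⟩

theorem bt_of_iso {X : Scheme.{u}} {K K' : DCoh.DEt X} (e : K ≅ K') (h : BT K) : BT K' :=
  ⟨h.1.imp fun n hn => @Triangulated.TStructure.isGE_of_iso _ _ _ _ _ _ _ DerivedCategory.TStructure.t K K' e n hn,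
    fun i => Colim.isTorsion_of_iso ((homologyFunctor _ i).mapIso e) (h.2 i)⟩

/-- A torsion model with terms acyclic for all quasi-compact quasi-separated direct images. -/
theorem exists_model {X : Scheme.{u}} {K : DCoh.DEt X} (hK : BT K) :
    ∃ (n : ℤ) (L : CochainComplex (EtCoh.Ab X) ℤ), L.IsStrictlyGE n ∧ (∀ m, EtCoh.IsTorsion (L.X m)) ∧
      (∀ {S : Scheme.{u}} (f : X ⟶ S) [QuasiCompact f] [QuasiSeparated f] (m : ℤ),
        L17.GrothSS.RAcyclic (EtCoh.push f) (L.X m)) ∧ Nonempty (Qo L ≅ K) := by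
  obtain ⟨⟨n, hn⟩, hE⟩ := hK
  obtain ⟨L, hL, ⟨e⟩⟩ := DerivedCategory.exists_iso_Q_obj_of_isGE K n
  obtain ⟨I, i, hi, hI, hge⟩ := CochainComplex.Plus.modelCategoryQuillen.exists_quasiIso_injective L n
  haveI : ∀ m, Injective (I.X m) := hI
  let eI : DerivedCategory.Q.obj I ≅ K := (asIso (DerivedCategory.Q.map i)).symm ≪≫ e.symm
  have hH : ∀ m, EtAcyc.IsLTorsion Set.univ (I.homology m) := fun m =>
    AffineEfface.isLTorsion_univ
      (Colim.isTorsion_of_iso ((homologyFunctor _ m).mapIso eI.symm ≪≫ (homologyFunctorFactors _ m).app I) (hE m))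
  haveI := PBC.quasiIso_torCι I hH
  haveI : (PBC.torC I).IsStrictlyGE n := (CochainComplex.isStrictlyGE_iff _ _).2 fun m hm =>
    (PBC.torFun X).map_isZero (CochainComplex.isZero_of_isStrictlyGE I n m hm)
  exact ⟨n, PBC.torC I, inferInstance,
    fun m => AffineEfface.isTorsion_of_isLTorsion (CompTransfer.isLTorsion_tor Set.univ (I.X m)),
    fun f _ _ m q hq => CompTransfer.isZero_Rpush_of_acyc f _ (CompTransfer.acyc_tor Set.univ (I.X m)) q hq,
    ⟨(quotientCompQhIso (EtCoh.Ab X)).app (PBC.torC I) ≪≫ asIso (DerivedCategory.Q.map (PBC.torCι I)) ≪≫ eI⟩⟩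

section Exact

variable {C₁ C₂ C₃ : Type (u + 2)} [Category.{u + 1} C₁] [Abelian C₁] [Category.{u + 1} C₂] [Abelian C₂]
  [Category.{u + 1} C₃] [Abelian C₃]
  (F : C₁ ⥤ C₂) [F.Additive] [PreservesFiniteLimits F] [PreservesFiniteColimits F]

/-- The value of a derived exact functor on a complex. -/
def mapQo (L : CochainComplex C₁ ℤ) :
    F.mapDerivedCategory.obj (Qo L) ≅ Qo ((F.mapHomologicalComplex _).obj L) :=
  F.mapDerivedCategoryFactorsh.app _

theorem isStrictlyGE_map (L : CochainComplex C₁ ℤ) (n : ℤ) [L.IsStrictlyGE n] :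
    CochainComplex.IsStrictlyGE ((F.mapHomologicalComplex _).obj L) n :=
  (CochainComplex.isStrictlyGE_iff _ _).2 fun i hi =>
    F.map_isZero (CochainComplex.isZero_of_isStrictlyGE L n i hi)

theorem exists_Qo (K : DerivedCategory C₁) : ∃ L, Nonempty (Qo L ≅ K) :=
  ⟨Q.objPreimage K, ⟨(quotientCompQhIso C₁).app _ ≪≫ Q.objObjPreimageIso K⟩⟩

/-- Isomorphic composites of exact functors agree on derived categories. -/
theorem nonempty_comp₂ {C₄ : Type (u + 2)} [Category.{u + 1} C₄] [Abelian C₄]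
    (G : C₂ ⥤ C₃) [G.Additive] [PreservesFiniteLimits G] [PreservesFiniteColimits G]
    (F' : C₁ ⥤ C₄) [F'.Additive] [PreservesFiniteLimits F'] [PreservesFiniteColimits F']
    (G' : C₄ ⥤ C₃) [G'.Additive] [PreservesFiniteLimits G'] [PreservesFiniteColimits G']
    (e : F ⋙ G ≅ F' ⋙ G') (K : DerivedCategory C₁) :
    Nonempty (G.mapDerivedCategory.obj (F.mapDerivedCategory.obj K) ≅
      G'.mapDerivedCategory.obj (F'.mapDerivedCategory.obj K)) := by
  obtain ⟨L, ⟨a⟩⟩ := exists_Qo K
  let θ : (G.mapHomologicalComplex _).obj ((F.mapHomologicalComplex _).obj L) ≅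
      (G'.mapHomologicalComplex _).obj ((F'.mapHomologicalComplex _).obj L) :=
    HomologicalComplex.Hom.isoOfComponents (fun n => e.app (L.X n))
      (fun i j _ => (e.hom.naturality (L.d i j)).symm)
  exact ⟨(G.mapDerivedCategory.mapIso (F.mapDerivedCategory.mapIso a.symm ≪≫ mapQo F L) ≪≫ mapQo G _) ≪≫
    Qh.mapIso ((HomotopyCategory.quotient _ _).mapIso θ) ≪≫
    (G'.mapDerivedCategory.mapIso (F'.mapDerivedCategory.mapIso a.symm ≪≫ mapQo F' L) ≪≫ mapQo G' _).symm⟩

/-- A composite of exact functors on derived categories. -/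
theorem nonempty_comp (G : C₂ ⥤ C₃) [G.Additive] [PreservesFiniteLimits G] [PreservesFiniteColimits G]
    (H : C₁ ⥤ C₃) [H.Additive] [PreservesFiniteLimits H] [PreservesFiniteColimits H] (e : F ⋙ G ≅ H)
    (K : DerivedCategory C₁) :
    Nonempty (G.mapDerivedCategory.obj (F.mapDerivedCategory.obj K) ≅ H.mapDerivedCategory.obj K) := by
  obtain ⟨L, ⟨a⟩⟩ := exists_Qo K
  let θ : (G.mapHomologicalComplex _).obj ((F.mapHomologicalComplex _).obj L) ≅ (H.mapHomologicalComplex _).obj L :=
    HomologicalComplex.Hom.isoOfComponents (fun n => e.app (L.X n))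
      (fun i j _ => (e.hom.naturality (L.d i j)).symm)
  exact ⟨(G.mapDerivedCategory.mapIso (F.mapDerivedCategory.mapIso a.symm ≪≫ mapQo F L) ≪≫ mapQo G _) ≪≫
    Qh.mapIso ((HomotopyCategory.quotient _ _).mapIso θ) ≪≫ (H.mapDerivedCategory.mapIso a.symm ≪≫ mapQo H L).symm⟩

end Exact

variable {X S : Scheme.{u}} (f : X ⟶ S) [DCoh.HasRpushEt X f]

/-- The derived direct image of a complex of acyclic sheaves. -/
theorem nonempty_RpushQo (L : CochainComplex (EtCoh.Ab X) ℤ) (n : ℤ) [L.IsStrictlyGE n]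
    (hac : ∀ m, L17.GrothSS.RAcyclic (EtCoh.push f) (L.X m)) :
    Nonempty ((DCoh.RpushEt X f).obj (Qo L) ≅ Qo (((EtCoh.push f).mapHomologicalComplex _).obj L)) :=
  haveI := PBC.isIso_unit_bddBelow f L n hac
  ⟨(asIso ((L10.EtBCComp.DComp.U f).app ((HomotopyCategory.quotient _ _).obj L))).symm⟩

end Groth.L27.RShriek
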