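import Groth.Agent.L27.RShriek.ModBounded
import Groth.Agent.L29.DCoh.RDerLE

/-! # Amplitude of direct images with proper support on bounded below complexes of modules -/

set_option autoImplicit false
set_option backward.defeqAttrib.useBackward true
set_option backward.isDefEq.respectTransparency false
set_option backward.isDefEq.respectTransparency.types false
set_option linter.style.haveILetI false
set_option linter.unusedSectionVars false
set_option maxHeartbeats 800000
set_option synthInstance.maxHeartbeats 100000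

universe u

open CategoryTheory CategoryTheory.Limits AlgebraicGeometry Opposite

attribute [local instance] HasDerivedCategory.standard

noncomputable section

namespace Groth.L27.RShriek

variable {Λ : Type (u + 1)} [CommRing Λ]

theorem hasRpushMod {X S : Scheme.{u}} (f : X ⟶ S) : EtBC.HasRpushMod Λ f :=
  Groth.L10.KInjDerived.hasRightDerivedFunctor (EtBC.pushModKh Λ f)

variable {X S : Scheme.{u}} {f : X ⟶ S} (c : DEt.Compactification f)

/-- The bounded below direct image with proper support extends to unbounded complexes. -/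
theorem nonempty_shriekPlusObj [EtBC.HasRpushMod Λ c.fbar] (K : DerivedCategory.Plus (EtModW.Mod Λ X)) :
    Nonempty (((EtDl.RshriekPlus Λ c).obj K).obj ≅
      (EtBC.RpushModD Λ c.fbar).obj ((EtDl.extZeroMod Λ c.j).mapDerivedCategory.obj K.obj)) := by
  obtain ⟨a⟩ := nonempty_plusObj_exact (EtDl.extZeroMod Λ c.j) K
  obtain ⟨b⟩ := nonempty_plusObj (EtModW.push Λ c.fbar)
    ((EtBC.pushModKh Λ c.fbar).totalRightDerivedUnit DerivedCategory.Qh
      (HomotopyCategory.quasiIso (EtModW.Mod Λ c.Xbar) (ComplexShape.up ℤ)))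
    ((EtDl.extZeroPlus Λ c.j).obj K)
  exact ⟨b ≪≫ (EtBC.RpushModD Λ c.fbar).mapIso a⟩

/-- The direct image with proper support of a bounded complex is bounded above. -/
theorem isZero_H_shriekPlus (d : ℕ) (hdim : ∀ s : S, topologicalKrullDim ↥(f.fiber s) ≤ d) {n : ℕ} (hn : 0 < n)
    (hΛ : (n : Λ) = 0) (K : DerivedCategory.Plus (EtModW.Mod Λ X)) (b : ℤ) (hK : K.IsLE b) :
    ((EtDl.RshriekPlus Λ c).obj K).IsLE (b + 2 * (d : ℤ)) := by
  haveI := hasRpushMod (Λ := Λ) c.fbar
  obtain ⟨a, ha⟩ := K.property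
  obtain ⟨k, hk⟩ : ∃ k : ℕ, b + 1 - (k : ℤ) ≤ a := ⟨(b + 1 - a).toNat, by omega⟩
  let Y := (EtDl.extZeroMod Λ c.j).mapDerivedCategory.obj K.obj
  haveI : K.obj.IsGE a := ha
  haveI : K.obj.IsLE b := (DerivedCategory.Plus.isLE_ι_obj_iff K b).2 hK
  have hY : ∀ i : ℤ, i < a ∨ b < i → IsZero ((DerivedCategory.homologyFunctor _ i).obj Y) := fun i hi => by
    obtain ⟨e⟩ := nonempty_homology_mapDerived (EtDl.extZeroMod Λ c.j) K.obj i
    refine ((EtDl.extZeroMod Λ c.j).map_isZero ?_).of_iso e
    rcases hi with hi | hi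
    · exact DerivedCategory.isZero_of_isGE K.obj a i hi
    · exact DerivedCategory.isZero_of_isLE K.obj b i hi
  rw [← DerivedCategory.Plus.isLE_ι_obj_iff, DerivedCategory.isLE_iff]
  intro i hi
  obtain ⟨e⟩ := nonempty_shriekPlusObj c K
  refine (L29.DC.RDerLE.isZero_H_above ((EtBC.pushModKh Λ c.fbar).totalRightDerivedUnit DerivedCategory.Qh
      (HomotopyCategory.quasiIso (EtModW.Mod Λ c.Xbar) (ComplexShape.up ℤ))) (2 * (d : ℤ)) b k Y
    ((DerivedCategory.isGE_iff Y _).2 fun m hm => hY m (Or.inl (by omega)))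
    ((DerivedCategory.isLE_iff Y b).2 fun m hm => hY m (Or.inr hm)) (fun m _ _ p hp => ?_) i hi).of_iso
    ((DerivedCategory.homologyFunctor _ i).mapIso e)
  obtain ⟨e'⟩ := nonempty_homology_mapDerived (EtDl.extZeroMod Λ c.j) K.obj m
  exact (isZero_rightDerived_push_extZeroMod c.j c.fbar d (fun s => c.fac.symm ▸ hdim s) hn hΛ _ p
    (by omega)).of_iso (((EtModW.push Λ c.fbar).rightDerived p).mapIso e')

end Groth.L27.RShriek
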