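import Groth.Agent.L27.RShriek.PlusBound
import Groth.Agent.L27.PBC.ModCoprod
import Groth.Agent.L17.IndRpush.DerRightAdj
import Groth.Agent.L10.RDerBound
import Mathlib.CategoryTheory.Adjunction.Restrict

/-! # Existence of the extraordinary inverse image on bounded below complexes of modules -/

set_option autoImplicit false
set_option backward.defeqAttrib.useBackward true
set_option backward.isDefEq.respectTransparency false
set_option backward.isDefEq.respectTransparency.types false
set_option linter.style.haveILetI false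
set_option linter.unusedSectionVars false
set_option maxHeartbeats 800000
set_option synthInstance.maxHeartbeats 100000

universe w w' v v' u u'

open CategoryTheory CategoryTheory.Limits AlgebraicGeometry Opposite

noncomputable section

namespace Groth.L27.RShriek

/-- A complex receiving no maps from objects placed in degree `m` has no cohomology in degree `m`. -/
theorem isZero_H_of_hom_single {A : Type u} [Category.{v} A] [Abelian A] [HasDerivedCategory.{w} A]
    (Y : DerivedCategory A) (m : ℤ)
    (h : ∀ (M : A) (φ : (DerivedCategory.singleFunctor A m).obj M ⟶ Y), φ = 0) :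
    IsZero ((DerivedCategory.homologyFunctor A m).obj Y) := by
  let L := DerivedCategory.Q.objPreimage Y
  let e : DerivedCategory.Q.obj L ≅ Y := DerivedCategory.Q.objObjPreimageIso Y
  let f : (HomologicalComplex.single A (ComplexShape.up ℤ) m).obj (L.cycles m) ⟶ L :=
    HomologicalComplex.mkHomFromSingle (L.iCycles m) (fun i _ => L.iCycles_d m i)
  have h1 : DerivedCategory.Q.map f = 0 := by
    have := h _ ((DerivedCategory.singleFunctorIsoCompQ A m).hom.app (L.cycles m) ≫ DerivedCategory.Q.map f ≫ e.hom)
    rw [← cancel_mono e.hom, ← cancel_epi ((DerivedCategory.singleFunctorIsoCompQ A m).hom.app (L.cycles m)),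
      zero_comp, comp_zero]
    exact this
  have h2 : HomologicalComplex.homologyMap f m = 0 := by
    have := ((DerivedCategory.homologyFunctorFactors A m).hom.naturality f)
    dsimp at this
    rw [h1, Functor.map_zero, zero_comp] at this
    rw [← cancel_epi ((DerivedCategory.homologyFunctorFactors A m).hom.app _), comp_zero]
    exact this.symm
  have h3 : (HomologicalComplex.singleObjCyclesSelfIso (ComplexShape.up ℤ) m (L.cycles m)).inv ≫
      HomologicalComplex.cyclesMap f m = 𝟙 _ := by
    rw [← cancel_mono (L.iCycles m)]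
    simp [f]
  have h4 : L.homologyπ m = 0 := by
    rw [← Category.id_comp (L.homologyπ m), ← h3, Category.assoc, ← HomologicalComplex.homologyπ_naturality, h2,
      comp_zero, comp_zero]
  refine IsZero.of_iso ?_ (((DerivedCategory.homologyFunctor A m).mapIso e.symm) ≪≫
    (DerivedCategory.homologyFunctorFactors A m).app L)
  exact (IsZero.iff_id_eq_zero _).2 (by rw [← cancel_epi (L.homologyπ m), h4, zero_comp, zero_comp])

section PlusIso

variable {A : Type u} [Category.{v} A] [Abelian A] [EnoughInjectives A] [HasDerivedCategory.{w} A]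
  [L10.KInjDerived.EnoughKInjectives A] {B : Type u'} [Category.{v'} B] [Abelian B] [HasDerivedCategory.{w'} B]
  (F : A ⥤ B) [F.Additive] {RF : DerivedCategory A ⥤ DerivedCategory B}
  (α : F.mapHomotopyCategory (ComplexShape.up ℤ) ⋙ DerivedCategory.Qh ⟶ DerivedCategory.Qh ⋙ RF)
  [RF.IsRightDerivedFunctor α (HomotopyCategory.quasiIso A (ComplexShape.up ℤ))]

include α in
/-- The unbounded derived functor, restricted to bounded below objects, is the bounded below one. -/
theorem nonempty_plusNatIso :
    Nonempty (F.rightDerivedFunctorPlus ⋙ DerivedCategory.Plus.ι ≅ DerivedCategory.Plus.ι ⋙ RF) := by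
  let RF' : DerivedCategory.Plus A ⥤ DerivedCategory.Plus B :=
    DerivedCategory.TStructure.t.plus.lift (DerivedCategory.Plus.ι ⋙ RF) fun K => by
      obtain ⟨a, ha⟩ := K.property
      haveI : K.obj.IsGE a := ha
      exact ⟨a, L10.RDerBound.isGE_obj α K.obj a⟩
  let β : F.mapHomotopyCategoryPlus ⋙ DerivedCategory.Plus.Qh ⟶ DerivedCategory.Plus.Qh ⋙ RF' :=
    { app := fun K => ObjectProperty.homMk (α.app K.obj)
      naturality := fun K L φ => DerivedCategory.Plus.ι.map_injective (α.naturality φ.hom) }
  let θ := F.rightDerivedFunctorPlus.rightDerivedDesc F.rightDerivedFunctorPlusUnit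
    (HomotopyCategory.Plus.quasiIso A) RF' β
  haveI : ∀ K, IsIso (θ.app K) := fun K => by
    obtain ⟨L, hI, ⟨e⟩⟩ := exists_plus_model K
    refine (NatTrans.isIso_app_iff_of_iso θ e).1 ?_
    haveI := isIso_unit_model F L hI
    haveI : IsIso (β.app ((HomotopyCategory.Plus.quotient A).obj L)) := by
      obtain ⟨I, m, hm⟩ := L
      haveI : ∀ n, Injective (I.X n) := hI
      haveI := CochainComplex.isKInjective_of_injective I m
      haveI := L10.KInjDerived.isIso_app_quotient α I
      haveI : IsIso (DerivedCategory.Plus.ι.map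
          (β.app ((HomotopyCategory.Plus.quotient A).obj (⟨I, m, hm⟩ : CochainComplex.Plus A)))) :=
        inferInstanceAs (IsIso (α.app ((HomotopyCategory.quotient A (ComplexShape.up ℤ)).obj I)))
      exact isIso_of_fully_faithful DerivedCategory.Plus.ι _
    exact IsIso.of_isIso_fac_left (F.rightDerivedFunctorPlus.rightDerived_fac_app F.rightDerivedFunctorPlusUnit
      (HomotopyCategory.Plus.quasiIso A) RF' β ((HomotopyCategory.Plus.quotient A).obj L))
  haveI : IsIso θ := NatIso.isIso_of_isIso_app θ
  exact ⟨Functor.isoWhiskerRight (asIso θ) DerivedCategory.Plus.ι ≪≫ Iso.refl _⟩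

end PlusIso

attribute [local instance] HasDerivedCategory.standard

variable {Λ : Type (u + 1)} [CommRing Λ] {X S : Scheme.{u}} {f : X ⟶ S} (c : DEt.Compactification f)

theorem nonempty_shriekPlusNatIso [EtBC.HasRpushMod Λ c.fbar] :
    Nonempty (EtDl.RshriekPlus Λ c ⋙ DerivedCategory.Plus.ι ≅
      DerivedCategory.Plus.ι ⋙ (EtDl.extZeroMod Λ c.j).mapDerivedCategory ⋙ EtBC.RpushModD Λ c.fbar) := by
  haveI : (EtDl.extZeroMod Λ c.j).mapDerivedCategory.IsRightDerivedFunctor
      (EtDl.extZeroMod Λ c.j).mapDerivedCategoryFactorsh.inv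
      (HomotopyCategory.quasiIso (EtModW.Mod Λ X) (ComplexShape.up ℤ)) :=
    Functor.isRightDerivedFunctor_of_inverts _ _ (EtDl.extZeroMod Λ c.j).mapDerivedCategoryFactorsh
  obtain ⟨a⟩ := nonempty_plusNatIso (EtDl.extZeroMod Λ c.j) (EtDl.extZeroMod Λ c.j).mapDerivedCategoryFactorsh.inv
  obtain ⟨b⟩ := nonempty_plusNatIso (EtModW.push Λ c.fbar)
    ((EtBC.pushModKh Λ c.fbar).totalRightDerivedUnit DerivedCategory.Qh
      (HomotopyCategory.quasiIso (EtModW.Mod Λ c.Xbar) (ComplexShape.up ℤ)))
  exact ⟨Functor.associator _ _ _ ≪≫ Functor.isoWhiskerLeft _ b ≪≫ (Functor.associator _ _ _).symm ≪≫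
    Functor.isoWhiskerRight a _ ≪≫ Functor.associator _ _ _⟩

/-- The direct image with proper support on bounded below complexes is a left adjoint. -/
theorem isLeftAdjoint_shriekPlus [CompactSpace ↥X] {n : ℕ} (hn : 0 < n) (hΛ : (n : Λ) = 0) :
    (EtDl.RshriekPlus Λ c).IsLeftAdjoint := by
  haveI : LocallyOfFiniteType f := by rw [← c.fac]; infer_instance
  obtain ⟨d, hd⟩ := exists_fiber_dim_bound f
  haveI := hasRpushMod (Λ := Λ) c.fbar
  haveI := PBC.ModU.isLeftAdjoint_RpushModD (Λ := Λ) c.fbar hn hΛ
  haveI := L17.IndRpush.DerRightAdj.isLeftAdjoint_mapDerivedCategory (EtDl.extZeroMod Λ c.j)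
  let Φ := (EtDl.extZeroMod Λ c.j).mapDerivedCategory ⋙ EtBC.RpushModD Λ c.fbar
  haveI : Φ.IsLeftAdjoint := inferInstance
  let adj := Adjunction.ofIsLeftAdjoint Φ
  obtain ⟨comm⟩ := nonempty_shriekPlusNatIso (Λ := Λ) c
  let G : DerivedCategory.Plus (EtModW.Mod Λ S) ⥤ DerivedCategory.Plus (EtModW.Mod Λ X) :=
    DerivedCategory.TStructure.t.plus.lift (DerivedCategory.Plus.ι ⋙ Φ.rightAdjoint) fun L => by
      obtain ⟨k, hk⟩ := L.property
      haveI : DerivedCategory.TStructure.t.IsGE (DerivedCategory.Plus.ι.obj L) k := ⟨hk.1⟩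
      refine ⟨k - 2 * (d : ℤ), (DerivedCategory.isGE_iff _ _).2 fun m hm => isZero_H_of_hom_single _ m fun M φ => ?_⟩
      apply (adj.homEquiv _ _).symm.injective
      let K := (DerivedCategory.Plus.singleFunctor (EtModW.Mod Λ X) m).obj M
      have hK : ((EtDl.RshriekPlus Λ c).obj K).obj.IsLE (m + 2 * (d : ℤ)) :=
        (DerivedCategory.Plus.isLE_ι_obj_iff _ _).2 (isZero_H_shriekPlus c d hd hn hΛ K m inferInstance)
      haveI : DerivedCategory.TStructure.t.IsLE (Φ.obj ((DerivedCategory.singleFunctor _ m).obj M))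
          (m + 2 * (d : ℤ)) :=
        haveI : DerivedCategory.TStructure.t.IsLE ((EtDl.RshriekPlus Λ c ⋙ DerivedCategory.Plus.ι).obj K) (m + 2 * (d : ℤ)) := hK
        DerivedCategory.TStructure.t.isLE_of_iso (comm.app K) _
      exact (DerivedCategory.TStructure.t.zero _ (m + 2 * (d : ℤ)) k (by omega)).trans
        (DerivedCategory.TStructure.t.zero _ (m + 2 * (d : ℤ)) k (by omega)).symm
  exact (Adjunction.restrictFullyFaithful (L := EtDl.RshriekPlus Λ c) (R := G) adj
    DerivedCategory.TStructure.t.plus.fullyFaithfulι DerivedCategory.TStructure.t.plus.fullyFaithfulι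
    comm.symm (Iso.refl _)).isLeftAdjoint

end Groth.L27.RShriek
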